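import Mathlib

/-!
`Sp_2n(q)` has at least `q^n` classes: every reciprocal polynomial is a characteristic polynomial.
-/

set_option autoImplicit false

namespace CfsgLib.SpClassNum

open Polynomial Matrix

variable {F : Type*} [Field F]

theorem charpoly_symm_block {n : ℕ} {S Si D : Matrix (Fin n) (Fin n) F} (h : Si * S = 1) :
    (fromBlocks 0 S (-Si) D).charpoly =
      (((X : F[X]) ^ 2 + 1) • (1 : Matrix (Fin n) (Fin n) F[X]) - (X : F[X]) • D.map C).det := by
  have hdS : (S.map C).det * (Si.map C).det = (1 : F[X]) := by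
    rw [← Matrix.det_mul, ← Matrix.map_mul, mul_eq_one_comm.1 h, Matrix.map_one _ C_0 C_1, Matrix.det_one]
  have hSS : Si.map C * S.map C = (1 : Matrix (Fin n) (Fin n) F[X]) := by
    rw [← Matrix.map_mul, h, Matrix.map_one _ C_0 C_1]
  rw [Matrix.charpoly, charmatrix_fromBlocks]
  have hmap : (-Si).map C = -(Si.map C : Matrix (Fin n) (Fin n) F[X]) := by
    ext i j; simp
  rw [hmap, neg_neg]
  have hX : charmatrix (0 : Matrix (Fin n) (Fin n) F) = (X : F[X]) • 1 := by
    rw [charmatrix, RingHom.mapMatrix_apply, Matrix.map_zero _ C_0, sub_zero, Matrix.scalar_apply,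
      Matrix.smul_one_eq_diagonal]
  have hD : charmatrix D = (X : F[X]) • 1 - D.map C := by
    rw [charmatrix, RingHom.mapMatrix_apply, Matrix.scalar_apply, Matrix.smul_one_eq_diagonal]
  rw [hX, hD]
  set S' := S.map C
  set Si' := Si.map C
  set D' := D.map C
  set x : F[X] := X
  have hL : (fromBlocks Si' 0 0 (1 : Matrix (Fin n) (Fin n) F[X])) * fromBlocks (x • 1) (-S') Si' (x • 1 - D') *
      fromBlocks S' 0 0 1 = fromBlocks (x • 1) (-1) 1 (x • 1 - D') := by
    simp [Matrix.fromBlocks_multiply, hSS]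
  have hV : fromBlocks (x • 1) (-1) 1 (x • 1 - D') * fromBlocks 1 0 (x • 1) 1 *
      fromBlocks (0 : Matrix (Fin n) (Fin n) F[X]) (1 : Matrix (Fin n) (Fin n) F[X]) (-1) 0 = fromBlocks (1 : Matrix (Fin n) (Fin n) F[X]) 0 (-(x • 1 - D'))
        ((x ^ 2 + 1) • 1 - x • D') := by
    simp only [Matrix.fromBlocks_multiply]
    congr 1 <;> simp [sub_mul, smul_smul, ← sq, add_smul, add_comm, add_sub, smul_sub]
  have hswap : (fromBlocks (0 : Matrix (Fin n) (Fin n) F[X]) (1 : Matrix (Fin n) (Fin n) F[X]) (-1 : Matrix (Fin n) (Fin n) F[X]) (0 : Matrix (Fin n) (Fin n) F[X])).det = 1 := by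
    have hfac : fromBlocks (1 : Matrix (Fin n) (Fin n) F[X]) (1 : Matrix (Fin n) (Fin n) F[X]) (0 : Matrix (Fin n) (Fin n) F[X]) (1 : Matrix (Fin n) (Fin n) F[X]) *
        fromBlocks (1 : Matrix (Fin n) (Fin n) F[X]) (0 : Matrix (Fin n) (Fin n) F[X]) (-1 : Matrix (Fin n) (Fin n) F[X]) (1 : Matrix (Fin n) (Fin n) F[X]) *
        fromBlocks (1 : Matrix (Fin n) (Fin n) F[X]) (1 : Matrix (Fin n) (Fin n) F[X]) (0 : Matrix (Fin n) (Fin n) F[X]) (1 : Matrix (Fin n) (Fin n) F[X]) =
        fromBlocks (0 : Matrix (Fin n) (Fin n) F[X]) (1 : Matrix (Fin n) (Fin n) F[X]) (-1 : Matrix (Fin n) (Fin n) F[X]) (0 : Matrix (Fin n) (Fin n) F[X]) := by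
      simp [Matrix.fromBlocks_multiply]
    rw [← hfac, Matrix.det_mul, Matrix.det_mul, det_fromBlocks_zero₂₁, det_fromBlocks_zero₁₂]
    simp
  have h1 := congrArg Matrix.det hV
  rw [Matrix.det_mul, Matrix.det_mul, det_fromBlocks_zero₁₂, hswap, det_fromBlocks_zero₁₂] at h1
  simp only [Matrix.det_one, one_mul, mul_one] at h1
  rw [← h1, ← hL, Matrix.det_mul, Matrix.det_mul, det_fromBlocks_zero₁₂, det_fromBlocks_zero₁₂,
    Matrix.det_one, mul_one, mul_one, mul_comm Si'.det, mul_assoc, mul_comm Si'.det, hdS, mul_one]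

theorem symm_block_mem {n : ℕ} {S Si D : Matrix (Fin n) (Fin n) F} (h : Si * S = 1) (hS : Sᵀ = S)
    (hSD : (S * D)ᵀ = S * D) : fromBlocks 0 S (-Si) D ∈ symplecticGroup (Fin n) F := by
  have h' : S * Si = 1 := mul_eq_one_comm.1 h
  have hSit : Siᵀ = Si := by
    have e : Siᵀ * S = 1 := by
      calc Siᵀ * S = Siᵀ * Sᵀ := by rw [hS]
        _ = 1 := by rw [← Matrix.transpose_mul, h', Matrix.transpose_one]
    calc Siᵀ = Siᵀ * (S * Si) := by rw [h', mul_one]
      _ = Si := by rw [← mul_assoc, e, one_mul]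
  have hDS : Dᵀ * S = S * D := by
    calc Dᵀ * S = (S * D)ᵀ := by rw [Matrix.transpose_mul, hS]
      _ = _ := hSD
  rw [SymplecticGroup.mem_iff', Matrix.J, fromBlocks_transpose, fromBlocks_multiply, fromBlocks_multiply]
  simp [hSit, hS, h, h', hDS]

theorem homogenize_det {n : ℕ} (D : Matrix (Fin n) (Fin n) F) :
    (((X : F[X]) ^ 2 + 1) • (1 : Matrix (Fin n) (Fin n) F[X]) - (X : F[X]) • D.map C).det =
      ∑ k ∈ Finset.range (n + 1), C (D.charpoly.coeff k) * (X ^ 2 + 1) ^ k * X ^ (n - k) := by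
  set K := FractionRing F[X]
  set ι := algebraMap F[X] K with hι
  have hinj : Function.Injective ι := IsFractionRing.injective F[X] K
  apply hinj
  have hx : ι X ≠ 0 := (map_ne_zero_iff ι hinj).2 X_ne_zero
  rw [RingHom.map_det, map_sum]
  have hmat : ι.mapMatrix (((X : F[X]) ^ 2 + 1) • (1 : Matrix (Fin n) (Fin n) F[X]) - (X : F[X]) • D.map C) =
      ι X • (Matrix.scalar (Fin n) (ι (X ^ 2 + 1) / ι X) - D.map (ι.comp C)) := by
    ext i j
    by_cases hij : i = j
    · subst hij; simp [mul_sub, mul_div_cancel₀ _ hx]; ring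
    · simp [hij]; ring
  rw [hmat, Matrix.det_smul, Fintype.card_fin, ← Matrix.eval_charpoly, Matrix.charpoly_map, eval_map,
    eval₂_eq_sum_range' (ι.comp C) (n := n + 1) (by rw [Matrix.charpoly_natDegree_eq_dim, Fintype.card_fin]; omega),
    Finset.mul_sum]
  refine Finset.sum_congr rfl fun k hk => ?_
  rw [Finset.mem_range] at hk
  simp only [RingHom.comp_apply, map_mul, map_pow, map_add, map_one, div_pow]
  obtain ⟨j, rfl⟩ : ∃ j, n = k + j := ⟨n - k, by omega⟩
  rw [Nat.add_sub_cancel_left, pow_add]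
  rw [mul_div_assoc', mul_div_assoc', div_eq_iff (pow_ne_zero _ hx)]
  ring

variable [Fintype F]

theorem pow_le_card_sp_classes {n : ℕ} (hn : 1 ≤ n) :
    Fintype.card F ^ n ≤ Nat.card (ConjClasses (symplecticGroup (Fin n) F)) := by
  classical
  obtain ⟨e, rfl⟩ : ∃ e, n = e + 1 := ⟨n - 1, by omega⟩
  let g : (Fin (e + 1) → F) → F[X] := fun v => X ^ (e + 1) + ∑ j : Fin (e + 1), C (v j) * X ^ (j : ℕ)
  have hgc : ∀ v (j : Fin (e + 1)), (g v).coeff j = v j := by
    intro v j
    simp only [g, coeff_add, coeff_X_pow, finsetSum_coeff, coeff_C_mul_X_pow]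
    rw [if_neg (by omega), zero_add, Finset.sum_eq_single j]
    · simp
    · intro b _ hb; exact if_neg fun h => hb (Fin.ext h.symm)
    · simp
  have hgd : ∀ v, (g v).natDegree = e + 1 ∧ (g v).Monic := by
    intro v
    have hlt : (∑ j : Fin (e + 1), C (v j) * X ^ (j : ℕ)).degree < ((e + 1 : ℕ) : WithBot ℕ) :=
      degree_sum_fin_lt (R := F) v
    have hm : (g v).Monic := monic_X_pow_add hlt
    refine ⟨?_, hm⟩
    apply natDegree_eq_of_degree_eq_some
    rw [degree_add_eq_left_of_degree_lt (by rwa [degree_X_pow]), degree_X_pow]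
  have hex : ∀ v, ∃ A : symplecticGroup (Fin (e + 1)) F,
      (A : Matrix (Fin (e + 1) ⊕ Fin (e + 1)) (Fin (e + 1) ⊕ Fin (e + 1)) F).charpoly =
      ∑ k ∈ Finset.range (e + 1 + 1), C ((g v).coeff k) * (X ^ 2 + 1) ^ k * X ^ (e + 1 - k) := by
    intro v
    obtain ⟨hd, hm⟩ := hgd v
    let R := AdjoinRoot (g v)
    let pb := AdjoinRoot.powerBasis hm.ne_zero
    have hdim : pb.dim = e + 1 := hd
    let b : Module.Basis (Fin (e + 1)) F R := pb.basis.reindex (finCongr hdim)
    let l : R →ₗ[F] F := (lcoeff F e).comp (AdjoinRoot.modByMonicHom hm)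
    let D : Matrix (Fin (e + 1)) (Fin (e + 1)) F := Algebra.leftMulMatrix b (AdjoinRoot.root (g v))
    let S : Matrix (Fin (e + 1)) (Fin (e + 1)) F := Matrix.of fun i j => l (b i * b j)
    have hS : Sᵀ = S := by ext i j; simp [S, mul_comm]
    have hSD : ∀ i j, (S * D) i j = l (b i * (AdjoinRoot.root (g v) * b j)) := by
      intro i j
      conv_rhs => rw [← b.sum_repr (AdjoinRoot.root (g v) * b j)]
      rw [Matrix.mul_apply, Finset.mul_sum, map_sum]
      refine Finset.sum_congr rfl fun k _ => ?_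
      rw [mul_smul_comm, map_smul, smul_eq_mul, mul_comm]
      simp only [S, D, Matrix.of_apply, Algebra.leftMulMatrix_eq_repr_mul]
    have hSDt : (S * D)ᵀ = S * D := by
      ext i j
      rw [Matrix.transpose_apply, hSD, hSD]
      congr 1
      ring
    have hdet : S.det ≠ 0 := by
      intro h0
      obtain ⟨w, hw0, hw⟩ := Matrix.exists_mulVec_eq_zero_iff.2 h0
      set z := ∑ j, w j • b j with hz
      have hz0 : z ≠ 0 := fun h => hw0 (funext fun j => by
        have := congrArg (fun y => b.repr y j) h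
        simpa [hz, Module.Basis.repr_self, Finsupp.single_apply] using this)
      have hkill : ∀ i, l (b i * z) = 0 := fun i => by
        have h' := congrFun hw i
        rw [Matrix.mulVec, dotProduct, Pi.zero_apply] at h'
        rw [hz, Finset.mul_sum, map_sum, ← h']
        refine Finset.sum_congr rfl fun j _ => ?_
        rw [mul_smul_comm, map_smul, smul_eq_mul, mul_comm]
        simp only [S, Matrix.of_apply]
      have hall : ∀ y : R, l (y * z) = 0 := fun y => by
        rw [← b.sum_repr y]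
        rw [Finset.sum_mul, map_sum]
        exact Finset.sum_eq_zero fun i _ => by rw [smul_mul_assoc, map_smul, hkill, smul_zero]
      have hzz := AdjoinRoot.mk_leftInverse hm z
      set h := AdjoinRoot.modByMonicHom hm z with hhdef
      have hh0 : h ≠ 0 := fun h' => hz0 (by rw [← hzz, h', map_zero])
      have hdeg : h.natDegree < e + 1 := by
        have : h = h %ₘ (g v) := by
          conv_lhs => rw [hhdef, ← hzz, AdjoinRoot.modByMonicHom_mk]
        rw [this, ← hd]
        exact natDegree_modByMonic_lt _ hm fun h1 => by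
          rw [h1, natDegree_one] at hd
          omega
      have h1 := hall (AdjoinRoot.mk (g v) (X ^ (e - h.natDegree)))
      rw [← hzz, ← map_mul] at h1
      have hlt : (X ^ (e - h.natDegree) * h).degree < (g v).degree := by
        refine degree_lt_degree ?_
        rw [natDegree_mul (pow_ne_zero _ X_ne_zero) hh0, natDegree_X_pow, hd]
        omega
      change (AdjoinRoot.modByMonicHom hm (AdjoinRoot.mk (g v) _)).coeff e = 0 at h1
      rw [AdjoinRoot.modByMonicHom_mk, (modByMonic_eq_self_iff hm).2 hlt, coeff_X_pow_mul',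
        if_pos (by omega), show e - (e - h.natDegree) = h.natDegree by omega] at h1
      exact hh0 (leadingCoeff_eq_zero.1 h1)
    have hSu : IsUnit S.det := isUnit_iff_ne_zero.2 hdet
    refine ⟨⟨_, symm_block_mem (Matrix.nonsing_inv_mul _ hSu) hS hSDt⟩, ?_⟩
    rw [charpoly_symm_block (Matrix.nonsing_inv_mul _ hSu), homogenize_det]
    have hDg : D.charpoly = g v := by
      have hre : D = Matrix.reindex (finCongr hdim) (finCongr hdim) (Algebra.leftMulMatrix pb.basis pb.gen) := by
        ext i j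
        simp [D, b, pb, Algebra.leftMulMatrix_eq_repr_mul]
      rw [hre, Matrix.charpoly_reindex, charpoly_leftMulMatrix, AdjoinRoot.powerBasis_gen,
        AdjoinRoot.minpoly_root hm.ne_zero, hm.leadingCoeff, inv_one, map_one, mul_one]
    rw [hDg]
  choose A hA using hex
  have hinj : Function.Injective fun v => ConjClasses.mk (A v) := by
    intro v w hvw
    obtain ⟨P, hP⟩ := isConj_iff.1 (ConjClasses.mk_eq_mk_iff_isConj.1 hvw)
    have hsum : ∑ k ∈ Finset.range (e + 1 + 1), C ((g v).coeff k) * (X ^ 2 + 1) ^ k * X ^ (e + 1 - k) =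
        ∑ k ∈ Finset.range (e + 1 + 1), C ((g w).coeff k) * (X ^ 2 + 1) ^ k * X ^ (e + 1 - k) := by
      rw [← hA v, ← hA w]
      have h2 := congrArg Subtype.val hP
      simp only [Submonoid.coe_mul] at h2
      let PU : (Matrix (Fin (e + 1) ⊕ Fin (e + 1)) (Fin (e + 1) ⊕ Fin (e + 1)) F)ˣ :=
        ⟨P.1, P⁻¹.1, by rw [← Submonoid.coe_mul, mul_inv_cancel, Submonoid.coe_one],
          by rw [← Submonoid.coe_mul, inv_mul_cancel, Submonoid.coe_one]⟩
      refine (Matrix.charpoly_units_conj PU (A v).1).symm.trans (Eq.trans ?_ (congrArg Matrix.charpoly h2))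
      rw [← Matrix.coe_units_inv]
      rfl
    funext j
    by_contra hne
    set s := (Finset.univ : Finset (Fin (e + 1))).filter fun i => v i ≠ w i with hs
    obtain ⟨k, hk, hmax⟩ := Finset.exists_max_image s (fun i => (i : ℕ)) ⟨j, by simp [hs, hne]⟩
    rw [hs, Finset.mem_filter] at hk
    have h0 : ∑ i ∈ Finset.range (e + 1 + 1),
        C ((g v).coeff i - (g w).coeff i) * (X ^ 2 + 1) ^ i * X ^ (e + 1 - i) = 0 := by
      simp only [map_sub, sub_mul, Finset.sum_sub_distrib, hsum, sub_self]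
    have hc := congrArg (fun p : F[X] => p.coeff (e + 1 + (k : ℕ))) h0
    simp only [coeff_zero, finsetSum_coeff] at hc
    rw [Finset.sum_eq_single (k : ℕ)] at hc
    · rw [mul_assoc, coeff_C_mul, hgc, hgc] at hc
      have hco : (((X : F[X]) ^ 2 + 1) ^ (k : ℕ) * X ^ (e + 1 - (k : ℕ))).coeff (e + 1 + (k : ℕ)) = 1 := by
        have hk2 := k.2
        rw [coeff_mul_X_pow', if_pos (by omega), show e + 1 + (k : ℕ) - (e + 1 - (k : ℕ)) = (k : ℕ) * 2 by omega]
        have hm2 : (((X : F[X]) ^ 2 + 1) ^ (k : ℕ)).Monic := by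
          have := (monic_X_pow_add_C (1 : F) two_ne_zero).pow (k : ℕ)
          simpa using this
        have hd2 : (((X : F[X]) ^ 2 + 1) ^ (k : ℕ)).natDegree = (k : ℕ) * 2 := by
          rw [natDegree_pow, ← C_1, natDegree_X_pow_add_C]
        rw [← hd2]
        exact hm2
      rw [hco, mul_one] at hc
      exact hk.2 (sub_eq_zero.1 hc)
    · intro i hi hik
      rw [Finset.mem_range] at hi
      rcases Nat.lt_or_ge (k : ℕ) i with h | h
      · rcases Nat.eq_or_lt_of_le (Nat.lt_succ_iff.1 hi) with h' | h'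
        · have e1 : (g v).coeff i = (g w).coeff i := by
            rw [h', ← (hgd v).1]
            rw [(hgd v).2.coeff_natDegree, (hgd v).1, ← (hgd w).1, (hgd w).2.coeff_natDegree]
          rw [e1, sub_self, map_zero, zero_mul, zero_mul, coeff_zero]
        · have e1 : v ⟨i, h'⟩ = w ⟨i, h'⟩ := by
            by_contra hvi
            have := hmax ⟨i, h'⟩ (by simp [hs, hvi])
            simp at this
            omega
          rw [show (g v).coeff i = v ⟨i, h'⟩ from hgc v ⟨i, h'⟩, show (g w).coeff i = w ⟨i, h'⟩ from hgc w ⟨i, h'⟩,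
            e1, sub_self, map_zero, zero_mul, zero_mul, coeff_zero]
      · refine coeff_eq_zero_of_natDegree_lt ?_
        refine lt_of_le_of_lt natDegree_mul_le ?_
        refine lt_of_le_of_lt (Nat.add_le_add natDegree_mul_le le_rfl) ?_
        have h2 : ((X : F[X]) ^ 2 + 1).natDegree = 2 := by rw [← C_1, natDegree_X_pow_add_C]
        rw [natDegree_C, natDegree_pow, h2, natDegree_X_pow]
        have := k.2
        omega
    · intro hk'
      exact absurd (Finset.mem_range.2 (by have := k.2; omega)) hk'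
  have h := Nat.card_le_card_of_injective _ hinj
  rwa [Nat.card_fun, Nat.card_fin, Nat.card_eq_fintype_card] at h

end CfsgLib.SpClassNum
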