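import Mathlib
import Cfsg.Agent.Lib.SympUnip.Rep

/-!
Coordinates for a matrix splitting it at the eigenvalues `1` and `-1`, in odd characteristic: two unipotent
blocks with Cayley transform in shift form, and a block without these eigenvalues.
-/

set_option autoImplicit false

namespace CfsgLib.SpClassNum

open Matrix CfsgLib.SympUnip CfsgLib.UnitaryUnip

variable {F : Type*} [Field F]

/-- Fitting decomposition of a matrix. -/
theorem exists_fitting {ι : Type*} [Fintype ι] [DecidableEq ι] (N : Matrix ι ι F) :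
    ∃ (a b : ℕ) (P : Matrix ι (Fin a ⊕ Fin b) F) (Q : Matrix (Fin a ⊕ Fin b) ι F)
      (N1 : Matrix (Fin a) (Fin a) F) (N2 : Matrix (Fin b) (Fin b) F),
      P * Q = 1 ∧ Q * P = 1 ∧ IsNilpotent N1 ∧ IsUnit N2 ∧ N * P = P * fromBlocks N1 0 0 N2 := by
  classical
  set f : Module.End F (ι → F) := Matrix.toLin' N with hf
  obtain ⟨k₀, hk₀⟩ := Filter.eventually_atTop.1 (LinearMap.eventually_isCompl_ker_pow_range_pow f)
  obtain ⟨k, hk, hc⟩ : ∃ k, 1 ≤ k ∧ IsCompl (LinearMap.ker (f ^ k)) (LinearMap.range (f ^ k)) :=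
    ⟨k₀ + 1, by omega, hk₀ _ (by omega)⟩
  set K := LinearMap.ker (f ^ k)
  set R := LinearMap.range (f ^ k)
  have hcomm : ∀ v, (f ^ k) (f v) = f ((f ^ k) v) := fun v => by
    rw [← Module.End.mul_apply, ← Module.End.mul_apply, ← pow_succ, ← pow_succ']
  have hK : ∀ x ∈ K, f x ∈ K := fun x hx => by
    rw [LinearMap.mem_ker] at hx ⊢
    rw [hcomm, hx, map_zero]
  have hR : ∀ x ∈ R, f x ∈ R := by
    rintro _ ⟨y, rfl⟩
    exact ⟨f y, hcomm y⟩
  let fK : Module.End F K := f.restrict hK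
  let fR : Module.End F R := f.restrict hR
  let bK := Module.finBasis F K
  let bR := Module.finBasis F R
  let e := ((bK.prod bR).equivFun.symm).trans (K.prodEquivOfIsCompl R hc)
  have he : ∀ z, e z = (bK.equivFun.symm (z ∘ Sum.inl) : ι → F) + (bR.equivFun.symm (z ∘ Sum.inr) : ι → F) := by
    intro z
    have h : (bK.prod bR).equivFun.symm z = (bK.equivFun.symm (z ∘ Sum.inl), bR.equivFun.symm (z ∘ Sum.inr)) := by
      rw [LinearEquiv.symm_apply_eq]
      funext i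
      rcases i with i | i <;>
        simp [Module.Basis.prod_repr_inl, Module.Basis.prod_repr_inr, Module.Basis.equivFun_symm_apply, Finsupp.single_apply]
    simp only [e, LinearEquiv.trans_apply, h, Submodule.coe_prodEquivOfIsCompl']
  refine ⟨_, _, LinearMap.toMatrix' e.toLinearMap, LinearMap.toMatrix' e.symm.toLinearMap,
    LinearMap.toMatrix bK bK fK, LinearMap.toMatrix bR bR fR, ?_, ?_, ?_, ?_, ?_⟩
  · rw [← LinearMap.toMatrix'_comp]; simp
  · rw [← LinearMap.toMatrix'_comp]; simp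
  · have hnil : IsNilpotent fK := ⟨k, LinearMap.ext fun x => Subtype.ext (by
      rw [Module.End.pow_restrict, LinearMap.restrict_coe_apply]
      exact x.2)⟩
    exact hnil.map (LinearMap.toMatrixAlgEquiv bK)
  · refine Matrix.mulVec_injective_iff_isUnit.1 fun y y' h => ?_
    obtain ⟨x, rfl⟩ := bR.equivFun.surjective y
    obtain ⟨x', rfl⟩ := bR.equivFun.surjective y'
    simp only [Module.Basis.equivFun_apply, LinearMap.toMatrix_mulVec_repr] at h
    have hx : fR x = fR x' := bR.repr.injective (Finsupp.ext (congrFun h))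
    have h0 : f ((x - x' : R) : ι → F) = 0 := by
      have h1 := congrArg Subtype.val hx
      simp only [fR, LinearMap.restrict_coe_apply] at h1
      rw [Submodule.coe_sub, map_sub, h1, sub_self]
    have hm : ((x - x' : R) : ι → F) ∈ K := by
      rw [LinearMap.mem_ker, show k = k - 1 + 1 by omega, pow_succ, Module.End.mul_apply, h0, map_zero]
    have h00 := Submodule.disjoint_def.1 hc.disjoint _ hm (x - x').2
    rw [Submodule.coe_eq_zero, sub_eq_zero] at h00
    rw [h00]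
  · refine Matrix.toLin'.injective (LinearMap.ext fun z => ?_)
    rw [Matrix.toLin'_mul, Matrix.toLin'_mul, LinearMap.comp_apply, LinearMap.comp_apply,
      Matrix.toLin'_toMatrix', ← hf]
    change f (e z) = e ((fromBlocks _ _ _ _) *ᵥ z)
    rw [he, he, Matrix.fromBlocks_mulVec, Sum.elim_comp_inl, Sum.elim_comp_inr, Matrix.zero_mulVec,
      Matrix.zero_mulVec, add_zero, zero_add, map_add]
    congr 1
    · obtain ⟨x, hx⟩ := bK.equivFun.surjective (z ∘ Sum.inl)
      rw [← hx, bK.equivFun.symm_apply_apply]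
      rw [show LinearMap.toMatrix bK bK fK *ᵥ bK.equivFun x = bK.equivFun (fK x) from
        LinearMap.toMatrix_mulVec_repr bK bK fK x, bK.equivFun.symm_apply_apply]
      rfl
    · obtain ⟨x, hx⟩ := bR.equivFun.surjective (z ∘ Sum.inr)
      rw [← hx, bR.equivFun.symm_apply_apply]
      rw [show LinearMap.toMatrix bR bR fR *ᵥ bR.equivFun x = bR.equivFun (fR x) from
        LinearMap.toMatrix_mulVec_repr bR bR fR x, bR.equivFun.symm_apply_apply]
      rfl

/-- Changing coordinates inside two diagonal blocks. -/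
theorem blocks_trans {ι α β α' β' : Type*} [Fintype ι] [Fintype α] [Fintype β] [Fintype α'] [Fintype β']
    {A : Matrix ι ι F} {P : Matrix ι (α ⊕ β) F} {X : Matrix α α F} {Y : Matrix β β F}
    (h : A * P = P * fromBlocks X 0 0 Y) {R : Matrix α α' F} {S : Matrix β β' F} {X' : Matrix α' α' F}
    {Y' : Matrix β' β' F} (hR : X * R = R * X') (hS : Y * S = S * Y') :
    A * (P * fromBlocks R 0 0 S) = P * fromBlocks R 0 0 S * fromBlocks X' 0 0 Y' := by
  have e : fromBlocks X 0 0 Y * fromBlocks R 0 0 S = fromBlocks R 0 0 S * fromBlocks X' 0 0 Y' := by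
    simp [Matrix.fromBlocks_multiply, hR, hS]
  rw [← Matrix.mul_assoc, h, Matrix.mul_assoc, e, ← Matrix.mul_assoc]

theorem inv_blocks {ι α β α' β' : Type*} [Fintype ι] [DecidableEq ι] [Fintype α] [DecidableEq α]
    [Fintype β] [DecidableEq β] [Fintype α'] [DecidableEq α'] [Fintype β'] [DecidableEq β']
    {P : Matrix ι (α ⊕ β) F} {Q : Matrix (α ⊕ β) ι F} {R : Matrix α α' F} {R' : Matrix α' α F}
    {S : Matrix β β' F} {S' : Matrix β' β F} (hPQ : P * Q = 1) (hQP : Q * P = 1) (hR : R * R' = 1)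
    (hR' : R' * R = 1) (hS : S * S' = 1) (hS' : S' * S = 1) :
    P * fromBlocks R 0 0 S * (fromBlocks R' 0 0 S' * Q) = 1 ∧
      fromBlocks R' 0 0 S' * Q * (P * fromBlocks R 0 0 S) = 1 := by
  have e1 : fromBlocks R 0 0 S * fromBlocks R' 0 0 S' = 1 := by
    simp [Matrix.fromBlocks_multiply, hR, hS, Matrix.fromBlocks_one]
  have e2 : fromBlocks R' 0 0 S' * fromBlocks R 0 0 S = 1 := by
    simp [Matrix.fromBlocks_multiply, hR', hS', Matrix.fromBlocks_one]
  constructor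
  · rw [Matrix.mul_assoc, ← Matrix.mul_assoc (fromBlocks R 0 0 S), e1, Matrix.one_mul, hPQ]
  · rw [Matrix.mul_assoc, ← Matrix.mul_assoc Q, hQP, Matrix.one_mul, e2]

/-- The Cayley transform in other coordinates. -/
theorem cay_intertwine {α β : Type*} [Fintype α] [DecidableEq α] [Fintype β] [DecidableEq β]
    {X : Matrix α α F} (hX : IsUnit (X + 1)) {P : Matrix α β F} {Q : Matrix β α F} (hPQ : P * Q = 1)
    (hQP : Q * P = 1) : IsUnit (Q * X * P + 1) ∧ cay (Q * X * P) = Q * cay X * P := by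
  have e : Q * X * P + 1 = Q * (X + 1) * P := by
    rw [Matrix.mul_add, Matrix.add_mul, Matrix.mul_one, hQP]
  obtain ⟨u, hu⟩ := hX
  have hu' : IsUnit (Q * X * P + 1) := by
    refine IsUnit.of_mul_eq_one (Q * (↑u⁻¹ : Matrix α α F) * P) ?_
    rw [e, ← hu]
    calc Q * (u : Matrix α α F) * P * (Q * (↑u⁻¹ : Matrix α α F) * P)
        = Q * ((u : Matrix α α F) * (P * Q) * (↑u⁻¹ : Matrix α α F)) * P := by simp only [Matrix.mul_assoc]
      _ = 1 := by rw [hPQ, Matrix.mul_one, u.mul_inv, Matrix.mul_one, hQP]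
  refine ⟨hu', hu'.mul_right_cancel ?_⟩
  rw [cay_mul hu', e]
  calc Q * X * P - 1 = Q * (X - 1) * P := by rw [Matrix.mul_sub, Matrix.sub_mul, Matrix.mul_one, hQP]
    _ = Q * (cay X * (P * Q) * (X + 1)) * P := by rw [hPQ, Matrix.mul_one, cay_mul ⟨u, hu⟩]
    _ = Q * cay X * P * (Q * (X + 1) * P) := by simp only [Matrix.mul_assoc]

variable [Fintype F]

/-- A unipotent matrix in coordinates where its Cayley transform is the shift. -/
theorem exists_shift_coords (h2 : (2 : F) ≠ 0) {a : ℕ} {X : Matrix (Fin a) (Fin a) F}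
    (hX : IsNilpotent (X - 1)) :
    ∃ (t : ℕ) (d : Fin t → ℕ) (_ : ∀ k, 0 < d k) (R : Matrix (Fin a) (Ix d) F) (R' : Matrix (Ix d) (Fin a) F)
      (X' : Matrix (Ix d) (Ix d) F),
      R * R' = 1 ∧ R' * R = 1 ∧ IsUnit (X' + 1) ∧ cay X' = jshift d ∧ X * R = R * X' := by
  have hu := isUnit_add_one h2 hX
  obtain ⟨j, hj⟩ := hX
  have hN : IsNilpotent (cay X) := ⟨j, (cay_pow_eq_zero_iff hu j).2 hj⟩
  obtain ⟨μ, hμ⟩ := exists_type hN (Fintype.card_fin a)
  obtain ⟨P, Q, hrep⟩ := exists_rep hN (partFun_pos μ) (fun i => by rw [hμ, parts_partFun])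
  obtain ⟨h1, h3⟩ := cay_intertwine hu hrep.1 hrep.2.1
  refine ⟨_, partFun μ, partFun_pos μ, P, Q, Q * X * P, hrep.1, hrep.2.1, h1, ?_, ?_⟩
  · rw [h3, Matrix.mul_assoc, hrep.2.2, ← Matrix.mul_assoc, hrep.2.1, Matrix.one_mul]
  · rw [← Matrix.mul_assoc, ← Matrix.mul_assoc, hrep.1, Matrix.one_mul]

/-- Coordinates adapted to the eigenvalues `±1`. -/
structure Coords {m : ℕ} (A : Matrix (Fin m) (Fin m) F) where
  tp : ℕ
  tm : ℕ
  b : ℕ
  dp : Fin tp → ℕ
  dm : Fin tm → ℕ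
  hdp : ∀ k, 0 < dp k
  hdm : ∀ k, 0 < dm k
  Xp : Matrix (Ix dp) (Ix dp) F
  Xm : Matrix (Ix dm) (Ix dm) F
  M : Matrix (Fin b) (Fin b) F
  P : Matrix (Fin m) (Ix dp ⊕ (Ix dm ⊕ Fin b)) F
  Q : Matrix (Ix dp ⊕ (Ix dm ⊕ Fin b)) (Fin m) F
  hPQ : P * Q = 1
  hQP : Q * P = 1
  hp1 : IsUnit (Xp + 1)
  hp2 : cay Xp = jshift dp
  hm1 : IsUnit (Xm + 1)
  hm2 : cay Xm = jshift dm
  hM1 : IsUnit (M - 1)
  hM2 : IsUnit (M + 1)
  eq : A * P = P * fromBlocks Xp 0 0 (fromBlocks (-Xm) 0 0 M)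

theorem exists_coords (h2 : (2 : F) ≠ 0) {m : ℕ} (A : Matrix (Fin m) (Fin m) F) : Nonempty (Coords A) := by
  obtain ⟨a, b, P, Q, N1, N2, hPQ, hQP, hN1, hN2, hAP⟩ := exists_fitting (A - 1)
  have hA : A * P = P * fromBlocks (N1 + 1) 0 0 (N2 + 1) := by
    calc A * P = (A - 1) * P + P := by rw [Matrix.sub_mul, Matrix.one_mul, sub_add_cancel]
      _ = P * fromBlocks N1 0 0 N2 + P * (1 : Matrix (Fin a ⊕ Fin b) (Fin a ⊕ Fin b) F) := by rw [hAP, Matrix.mul_one]
      _ = _ := by rw [← Matrix.mul_add, ← Matrix.fromBlocks_one, Matrix.fromBlocks_add]; simp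
  obtain ⟨c, e, P', Q', N1', N2', hPQ', hQP', hN1', hN2', hY⟩ := exists_fitting (N2 + 1 + 1)
  have hY' : (N2 + 1) * P' = P' * fromBlocks (-(1 - N1')) 0 0 (N2' - 1) := by
    calc (N2 + 1) * P' = (N2 + 1 + 1) * P' - P' := by rw [Matrix.add_mul (N2 + 1), Matrix.one_mul, add_sub_cancel_right]
      _ = P' * fromBlocks N1' 0 0 N2' - P' * (1 : Matrix (Fin c ⊕ Fin e) (Fin c ⊕ Fin e) F) := by rw [hY, Matrix.mul_one]
      _ = _ := by
        rw [← Matrix.mul_sub, ← Matrix.fromBlocks_one, sub_eq_add_neg, Matrix.fromBlocks_neg,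
          Matrix.fromBlocks_add, neg_sub]
        simp [sub_eq_add_neg]
  have hXm : IsNilpotent ((1 - N1') - 1) := by
    rw [sub_sub_cancel_left]; exact hN1'.neg
  have hM1 : IsUnit (N2' - 1 - 1) := by
    have h1 : Q' * N2 * P' = fromBlocks (N1' - 1 - 1) 0 0 (N2' - 1 - 1) := by
      calc Q' * N2 * P' = Q' * ((N2 + 1 + 1) * P') - Q' * P' - Q' * P' := by
            simp only [Matrix.add_mul, Matrix.mul_add, Matrix.one_mul, Matrix.mul_assoc]
            abel
        _ = _ := by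
          rw [hY, ← Matrix.mul_assoc, hQP', Matrix.one_mul,
            show (1 : Matrix (Fin c ⊕ Fin e) (Fin c ⊕ Fin e) F) = fromBlocks 1 0 0 1 from Matrix.fromBlocks_one.symm,
            sub_eq_add_neg, sub_eq_add_neg, Matrix.fromBlocks_neg, Matrix.fromBlocks_add, Matrix.fromBlocks_add]
          simp [sub_eq_add_neg]
    obtain ⟨u, hu⟩ := hN2
    have h3 : IsUnit (Q' * N2 * P') := by
      refine IsUnit.of_mul_eq_one (Q' * (↑u⁻¹ : Matrix (Fin b) (Fin b) F) * P') ?_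
      rw [← hu]
      calc Q' * (u : Matrix (Fin b) (Fin b) F) * P' * (Q' * (↑u⁻¹ : Matrix (Fin b) (Fin b) F) * P')
          = Q' * ((u : Matrix (Fin b) (Fin b) F) * (P' * Q') * (↑u⁻¹ : Matrix (Fin b) (Fin b) F)) * P' := by
            simp only [Matrix.mul_assoc]
        _ = 1 := by rw [hPQ', Matrix.mul_one, u.mul_inv, Matrix.mul_one, hQP']
    rw [h1, Matrix.isUnit_fromBlocks_zero₁₂] at h3
    exact h3.2
  obtain ⟨tp, dp, hdp, R, R', Xp, hR, hR', hp1, hp2, hXR⟩ :=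
    exists_shift_coords h2 (X := N1 + 1) (by rw [add_sub_cancel_right]; exact hN1)
  obtain ⟨tm, dm, hdm, R₂, R₂', Xm, hR₂, hR₂', hm1, hm2, hXR₂⟩ := exists_shift_coords h2 hXm
  have hinner : (N2 + 1) * (P' * fromBlocks R₂ 0 0 (1 : Matrix (Fin e) (Fin e) F)) =
      P' * fromBlocks R₂ 0 0 (1 : Matrix (Fin e) (Fin e) F) * fromBlocks (-Xm) 0 0 (N2' - 1) :=
    blocks_trans hY' (by rw [Matrix.neg_mul, hXR₂, Matrix.mul_neg]) (by rw [Matrix.mul_one, Matrix.one_mul])
  obtain ⟨i1, i2⟩ := inv_blocks hPQ' hQP' hR₂ hR₂' (Matrix.one_mul (1 : Matrix (Fin e) (Fin e) F))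
    (Matrix.one_mul (1 : Matrix (Fin e) (Fin e) F))
  obtain ⟨o1, o2⟩ := inv_blocks hPQ hQP hR hR' i1 i2
  exact ⟨{ tp := tp, tm := tm, b := e, dp := dp, dm := dm, hdp := hdp, hdm := hdm, Xp := Xp, Xm := Xm,
           M := N2' - 1, P := _, Q := _, hPQ := o1, hQP := o2, hp1 := hp1, hp2 := hp2, hm1 := hm1,
           hm2 := hm2, hM1 := hM1, hM2 := by rw [sub_add_cancel]; exact hN2',
           eq := blocks_trans hA hXR hinner }⟩

end CfsgLib.SpClassNum
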