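import Mathlib
import Cfsg.Agent.Lib.SpClassNum.Coords
import Cfsg.Agent.Lib.IsomConj.Norm

/-!
Isometries of an alternating form inside one similarity class: they are determined by the square classes of the
forms on the even parts at the eigenvalues `±1` (Wall), in odd characteristic.
-/

set_option autoImplicit false

namespace CfsgLib.SpClassNum

open Matrix CfsgLib.SympUnip CfsgLib.UnitaryUnip

variable {F : Type*} [Field F]

/-- An isometry and its invariant form split at an eigenvalue one. -/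
theorem isometry_blocks {α β : Type*} [Fintype α] [DecidableEq α] [Fintype β] [DecidableEq β]
    {La : Matrix α α F} {Lb : Matrix β β F} {G : Matrix (α ⊕ β) (α ⊕ β) F} (hLa : IsNilpotent (La - 1))
    (hLb : IsUnit (Lb - 1)) (h : (fromBlocks La 0 0 Lb)ᵀ * G * fromBlocks La 0 0 Lb = G) (hG : Gᵀ = -G)
    (hu : IsUnit G) :
    G = fromBlocks G.toBlocks₁₁ 0 0 G.toBlocks₂₂ ∧
      (Laᵀ * G.toBlocks₁₁ * La = G.toBlocks₁₁ ∧ G.toBlocks₁₁ᵀ = -G.toBlocks₁₁ ∧ IsUnit G.toBlocks₁₁) ∧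
      (Lbᵀ * G.toBlocks₂₂ * Lb = G.toBlocks₂₂ ∧ G.toBlocks₂₂ᵀ = -G.toBlocks₂₂ ∧ IsUnit G.toBlocks₂₂) := by
  set G11 := G.toBlocks₁₁
  set G12 := G.toBlocks₁₂
  set G21 := G.toBlocks₂₁
  set G22 := G.toBlocks₂₂
  have hb : G = fromBlocks G11 G12 G21 G22 := (fromBlocks_toBlocks G).symm
  rw [hb, fromBlocks_transpose, fromBlocks_multiply, fromBlocks_multiply] at h
  simp only [transpose_zero, Matrix.zero_mul, Matrix.mul_zero, add_zero, zero_add, fromBlocks_inj] at h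
  obtain ⟨h11, h12, -, h22⟩ := h
  rw [hb, fromBlocks_transpose, fromBlocks_neg, fromBlocks_inj] at hG
  obtain ⟨t11, t21, -, t22⟩ := hG
  have hc : Lb * (Lb - 1) = (Lb - 1) * Lb := by rw [Matrix.mul_sub, Matrix.sub_mul, Matrix.mul_one, Matrix.one_mul]
  have hkey : ∀ k : ℕ, (1 - Laᵀ) ^ k * G12 * Lb ^ k = G12 * (Lb - 1) ^ k := by
    intro k
    induction k with
    | zero => simp
    | succ k ih =>
      calc (1 - Laᵀ) ^ (k + 1) * G12 * Lb ^ (k + 1)
          = (1 - Laᵀ) * ((1 - Laᵀ) ^ k * G12 * Lb ^ k) * Lb := by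
            rw [pow_succ', pow_succ]; simp only [Matrix.mul_assoc]
        _ = (1 - Laᵀ) * G12 * ((Lb - 1) ^ k * Lb) := by rw [ih]; simp only [Matrix.mul_assoc]
        _ = (1 - Laᵀ) * G12 * Lb * (Lb - 1) ^ k := by
            rw [(show Commute (Lb - 1) Lb from hc.symm).pow_left k |>.eq]; simp only [Matrix.mul_assoc]
        _ = (G12 * Lb - G12) * (Lb - 1) ^ k := by
            rw [Matrix.sub_mul (1 : Matrix α α F), Matrix.one_mul, Matrix.sub_mul G12, h12]
        _ = _ := by rw [pow_succ', ← Matrix.mul_assoc, Matrix.mul_sub, Matrix.mul_one]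
  obtain ⟨j, hj⟩ := hLa
  have hj' : (1 - Laᵀ) ^ j = 0 := by
    rw [show (1 : Matrix α α F) - Laᵀ = (-(La - 1))ᵀ by rw [neg_sub, transpose_sub, transpose_one],
      ← transpose_pow, neg_pow, hj, Matrix.mul_zero, transpose_zero]
  have hG12 : G12 = 0 := by
    obtain ⟨u, hu'⟩ := hLb.pow j
    have h0 := hkey j
    rw [hj', Matrix.zero_mul, Matrix.zero_mul, ← hu'] at h0
    calc G12 = G12 * (u : Matrix β β F) * (↑u⁻¹ : Matrix β β F) := by
          rw [Matrix.mul_assoc, u.mul_inv, Matrix.mul_one]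
      _ = 0 := by rw [← h0, Matrix.zero_mul]
  have hG21 : G21 = 0 := by
    rw [hG12, neg_zero] at t21
    simpa using congrArg Matrix.transpose t21
  rw [hb, hG12, hG21, Matrix.isUnit_fromBlocks_zero₁₂] at hu
  refine ⟨?_, ⟨h11, t11, hu.1⟩, h22, t22, hu.2⟩
  conv_lhs => rw [hb, hG12, hG21]

variable [Fintype F]

theorem isNilpotent_sub_one_of_cay {t : ℕ} {d : Fin t → ℕ} (hd : ∀ k, 0 < d k)
    {X : Matrix (Ix d) (Ix d) F} (h1 : IsUnit (X + 1)) (h2 : cay X = jshift d) : IsNilpotent (X - 1) := by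
  obtain ⟨j, hj⟩ : IsNilpotent (jshift d : Matrix (Ix d) (Ix d) F) := by
    have h := (Cfsg.Agent.Jordan57.jordanN_isNilpotent (F := F) d hd).map
      (LinearMap.toMatrixAlgEquiv' (R := F) (n := Ix d))
    have e : LinearMap.toMatrixAlgEquiv' (R := F) (n := Ix d) (Cfsg.Agent.Jordan57.jordanN d F) = jshift d := by
      rw [Cfsg.Agent.Jordan57.jordanN, jordan_sub_one]
      exact LinearMap.toMatrix'_toLin' _
    rwa [e] at h
  exact ⟨j, (cay_pow_eq_zero_iff h1 j).1 (by rw [h2, hj])⟩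

theorem isSkewForm_of_isometry {t : ℕ} {d : Fin t → ℕ} {X G : Matrix (Ix d) (Ix d) F}
    (h1 : IsUnit (X + 1)) (h2 : cay X = jshift d) (hiso : Xᵀ * G * X = G) (hskew : Gᵀ = -G) :
    IsSkewForm d G := by
  refine ⟨hskew, ?_⟩
  rw [← h2]
  exact cay_skew h1 hiso

theorem commute_of_commute_shift (h2 : (2 : F) ≠ 0) {t : ℕ} {d : Fin t → ℕ} {X U : Matrix (Ix d) (Ix d) F}
    (h1 : IsUnit (X + 1)) (hX : cay X = jshift d) (hU : Commute U (jshift d)) (hu : IsUnit U) :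
    U * X = X * U := by
  obtain ⟨u, rfl⟩ := hu
  obtain ⟨h3, h4⟩ := cay_conj h1 u.mul_inv u.inv_mul
  have h5 : cay ((u : Matrix (Ix d) (Ix d) F) * X * (↑u⁻¹ : Matrix (Ix d) (Ix d) F)) = cay X := by
    rw [h4, hX, hU.eq, Matrix.mul_assoc, u.mul_inv, Matrix.mul_one]
  have h6 := cay_injective h2 h3 h1 h5
  calc (u : Matrix (Ix d) (Ix d) F) * X
      = (u : Matrix (Ix d) (Ix d) F) * X * (↑u⁻¹ : Matrix (Ix d) (Ix d) F) * u := by
        rw [Matrix.mul_assoc _ (↑u⁻¹ : Matrix (Ix d) (Ix d) F), u.inv_mul, Matrix.mul_one]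
    _ = _ := by rw [h6]

/-- Two forms preserved by a matrix without eigenvalues `±1` are congruent under its centraliser. -/
theorem congr_no_root {β : Type*} [Fintype β] [DecidableEq β] {M G G' : Matrix β β F} (hM1 : IsUnit (M - 1))
    (hM2 : IsUnit (M + 1)) (hM : Mᵀ * G * M = G) (hG : Gᵀ = -G) (hu : IsUnit G) (hM' : Mᵀ * G' * M = G')
    (hG' : G'ᵀ = -G') (hu' : IsUnit G') :
    ∃ U : Matrix β β F, U * M = M * U ∧ IsUnit U ∧ Uᵀ * G * U = G' := by
  obtain ⟨g, hg⟩ := hu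
  let Gi : Matrix β β F := (↑g⁻¹ : Matrix β β F)
  have hGi : G * Gi = 1 := by rw [← hg]; exact g.mul_inv
  have hiG : Gi * G = 1 := by rw [← hg]; exact g.inv_mul
  have hGit : Giᵀ = -Gi := by
    have h1 : Giᵀ * -G = 1 := by rw [← hG, ← transpose_mul, hGi, transpose_one]
    calc Giᵀ = Giᵀ * -G * -Gi := by rw [Matrix.mul_assoc, neg_mul_neg, hGi, Matrix.mul_one]
      _ = -Gi := by rw [h1, Matrix.one_mul]
  let τ : Matrix β β F → Matrix β β F := fun Y => Gi * Yᵀ * G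
  have hadd : ∀ a b, τ (a + b) = τ a + τ b := fun a b => by
    simp only [τ, transpose_add, Matrix.mul_add, Matrix.add_mul]
  have hmul : ∀ a b, τ (a * b) = τ b * τ a := fun a b => by
    simp only [τ, transpose_mul, Matrix.mul_assoc]
    rw [← Matrix.mul_assoc G Gi, hGi, Matrix.one_mul]
  have hinv : ∀ a, τ (τ a) = a := fun a => by
    simp only [τ, transpose_mul, transpose_transpose, hG, hGit, Matrix.mul_assoc, Matrix.neg_mul,
      Matrix.mul_neg, neg_neg]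
    rw [← Matrix.mul_assoc Gi G, hiG, Matrix.one_mul]
    simp only [Matrix.mul_assoc, hiG, Matrix.mul_one]
  set Mi := τ M with hMi
  have hMiM : Mi * M = 1 := by
    simp only [hMi, τ, Matrix.mul_assoc]
    rw [← Matrix.mul_assoc Mᵀ, hM, hiG]
  have hMMi : M * Mi = 1 := mul_eq_one_comm.1 hMiM
  set W := Gi * G' with hW
  have hMG : M * Gi * Mᵀ = Gi := by
    have h1 : M * Gi * Mᵀ * G = 1 := by
      have := hMMi
      simp only [hMi, τ, Matrix.mul_assoc] at this ⊢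
      exact this
    calc M * Gi * Mᵀ = M * Gi * Mᵀ * (G * Gi) := by rw [hGi, Matrix.mul_one]
      _ = Gi := by rw [← Matrix.mul_assoc, h1, Matrix.one_mul]
  have hWM : W * M = M * W := by
    calc W * M = M * Gi * Mᵀ * G' * M := by rw [hMG, hW]
      _ = M * Gi * (Mᵀ * G' * M) := by simp only [Matrix.mul_assoc]
      _ = M * W := by rw [hM', hW, Matrix.mul_assoc]
  have hWMi : W * Mi = Mi * W := by
    calc W * Mi = Mi * (M * W) * Mi := by rw [← Matrix.mul_assoc Mi, hMiM, Matrix.one_mul]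
      _ = Mi * W := by rw [← hWM, Matrix.mul_assoc, Matrix.mul_assoc W, hMMi, Matrix.mul_one]
  have hWτ : τ W = W := by
    simp only [τ, hW, transpose_mul, hG', hGit, neg_mul_neg]
    simp only [Matrix.mul_assoc, hiG, Matrix.mul_one]
  let S : Set (Matrix β β F) := {M, Mi, W}
  have hcomm : ∀ a ∈ S, ∀ b ∈ S, a * b = b * a := by
    rintro a (ha | ha | ha) b (hb | hb | hb) <;> rw [ha, hb] <;>
      first
        | exact hWM
        | exact hWM.symm
        | exact hWMi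
        | exact hWMi.symm
        | exact hMMi.trans hMiM.symm
        | exact hMiM.trans hMMi.symm
  have hS : ∀ a ∈ S, τ a ∈ Subring.closure S := by
    rintro a (ha | ha | ha) <;> rw [ha]
    · exact Subring.subset_closure (Or.inr (Or.inl hMi.symm))
    · rw [hMi, hinv]; exact Subring.subset_closure (Or.inl rfl)
    · rw [hWτ]; exact Subring.subset_closure (Or.inr (Or.inr rfl))
  have hω : IsUnit (M - τ M) := by
    have e : M - τ M = Mi * ((M - 1) * (M + 1)) := by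
      rw [show (M - 1) * (M + 1) = M * M - 1 by noncomm_ring, Matrix.mul_sub, Matrix.mul_one,
        ← Matrix.mul_assoc, hMiM, Matrix.one_mul]
    rw [e]
    exact (IsUnit.of_mul_eq_one _ hMiM).mul (hM1.mul hM2)
  have hWu : IsUnit W := (IsUnit.of_mul_eq_one _ hiG).mul hu'
  obtain ⟨a, haS, ha⟩ := IsomConj.exists_star_mul_self τ hadd hmul hinv S hcomm hS M
    (Subring.subset_closure (Or.inl rfl)) hω W (Subring.subset_closure (Or.inr (Or.inr rfl))) hWu hWτ
  obtain ⟨hQ, -, -⟩ := IsomConj.exists_closure_involution τ hadd hmul hinv S hcomm hS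
  refine ⟨a, hQ a haS M (Subring.subset_closure (Or.inl rfl)), ?_, ?_⟩
  · obtain ⟨w, hw⟩ := hWu
    refine IsUnit.of_mul_eq_one_right ((↑w⁻¹ : Matrix β β F) * τ a) ?_
    rw [Matrix.mul_assoc, ha, ← hw, w.inv_mul]
  · calc aᵀ * G * a = G * (τ a * a) := by
          simp only [τ, Matrix.mul_assoc]
          rw [← Matrix.mul_assoc G Gi, hGi, Matrix.one_mul]
      _ = G' := by rw [ha, hW, ← Matrix.mul_assoc, hGi, Matrix.one_mul]

/-- The even parts. -/
def evenParts {t : ℕ} (d : Fin t → ℕ) : Finset ℕ := (Finset.univ.image d).filter Even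

open scoped Classical in
/-- The even parts with square discriminant. -/
noncomputable def signSet {t : ℕ} (d : Fin t → ℕ) (hd : ∀ k, 0 < d k) (G : Matrix (Ix d) (Ix d) F) :
    Finset ℕ := (evenParts d).filter fun a => IsSquare (subN d a (blk d hd G)).det

theorem congr_of_signSet (h2 : (2 : F) ≠ 0) {t : ℕ} {d : Fin t → ℕ} (hd : ∀ k, 0 < d k)
    {X G G' : Matrix (Ix d) (Ix d) F} (h1 : IsUnit (X + 1)) (hX : cay X = jshift d)
    (hM : Xᵀ * G * X = G) (hG : Gᵀ = -G) (hu : IsUnit G) (hM' : Xᵀ * G' * X = G') (hG' : G'ᵀ = -G')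
    (hu' : IsUnit G') (hsig : signSet d hd G = signSet d hd G') :
    ∃ U : Matrix (Ix d) (Ix d) F, U * X = X * U ∧ IsUnit U ∧ Uᵀ * G * U = G' := by
  classical
  obtain ⟨p, hp⟩ := CharP.exists F
  haveI : Fact p.Prime := ⟨CharP.char_is_prime F p⟩
  have hp2 : p ≠ 2 := fun h => h2 (by subst h; exact_mod_cast CharP.cast_eq_zero F 2)
  obtain ⟨U, hUc, hUu, hU⟩ := congr_of_squares hd hp2 h2 (isSkewForm_of_isometry h1 hX hM hG) hu
    (isSkewForm_of_isometry h1 hX hM' hG') hu' (M := Finset.univ.sup d + 1)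
    (fun k => Nat.lt_succ_of_le (Finset.le_sup (Finset.mem_univ k))) (fun k hk => by
      have hmem : d k ∈ evenParts d := Finset.mem_filter.2 ⟨Finset.mem_image_of_mem d (Finset.mem_univ k), hk⟩
      have := Finset.ext_iff.1 hsig (d k)
      simp only [signSet, Finset.mem_filter, hmem, true_and] at this
      exact this)
  exact ⟨U, commute_of_commute_shift h2 h1 hX hUc hUu, hUu, hU⟩

variable {m : ℕ} {A : Matrix (Fin m) (Fin m) F}

/-- The block diagonal normal form. -/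
def Coords.L (C : Coords A) : Matrix (Ix C.dp ⊕ (Ix C.dm ⊕ Fin C.b)) (Ix C.dp ⊕ (Ix C.dm ⊕ Fin C.b)) F :=
  fromBlocks C.Xp 0 0 (fromBlocks (-C.Xm) 0 0 C.M)

/-- The square classes of a form in the coordinates. -/
noncomputable def Coords.signs (C : Coords A)
    (G : Matrix (Ix C.dp ⊕ (Ix C.dm ⊕ Fin C.b)) (Ix C.dp ⊕ (Ix C.dm ⊕ Fin C.b)) F) : Finset ℕ × Finset ℕ :=
  (signSet C.dp C.hdp G.toBlocks₁₁, signSet C.dm C.hdm G.toBlocks₂₂.toBlocks₁₁)

theorem Coords.blocks (h2 : (2 : F) ≠ 0) (C : Coords A)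
    {G : Matrix (Ix C.dp ⊕ (Ix C.dm ⊕ Fin C.b)) (Ix C.dp ⊕ (Ix C.dm ⊕ Fin C.b)) F}
    (h : C.Lᵀ * G * C.L = G) (hG : Gᵀ = -G) (hu : IsUnit G) :
    ∃ (Gp : Matrix (Ix C.dp) (Ix C.dp) F) (Gm : Matrix (Ix C.dm) (Ix C.dm) F) (Go : Matrix (Fin C.b) (Fin C.b) F),
      G = fromBlocks Gp 0 0 (fromBlocks Gm 0 0 Go) ∧
      (C.Xpᵀ * Gp * C.Xp = Gp ∧ Gpᵀ = -Gp ∧ IsUnit Gp) ∧
      (C.Xmᵀ * Gm * C.Xm = Gm ∧ Gmᵀ = -Gm ∧ IsUnit Gm) ∧
      (C.Mᵀ * Go * C.M = Go ∧ Goᵀ = -Go ∧ IsUnit Go) := by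
  have hp := isNilpotent_sub_one_of_cay C.hdp C.hp1 C.hp2
  have hm := isNilpotent_sub_one_of_cay C.hdm C.hm1 C.hm2
  have hY : IsUnit (fromBlocks (-C.Xm) 0 0 C.M - 1) := by
    rw [← Matrix.fromBlocks_one, sub_eq_add_neg, Matrix.fromBlocks_neg, Matrix.fromBlocks_add]
    simp only [neg_zero, add_zero]
    rw [Matrix.isUnit_fromBlocks_zero₁₂, ← neg_add, ← sub_eq_add_neg]
    exact ⟨C.hm1.neg, C.hM1⟩
  obtain ⟨e1, hGp, hR, tR, uR⟩ := isometry_blocks hp hY h hG hu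
  have hR' : (fromBlocks C.Xm 0 0 (-C.M))ᵀ * G.toBlocks₂₂ * fromBlocks C.Xm 0 0 (-C.M) = G.toBlocks₂₂ := by
    have e : fromBlocks C.Xm 0 0 (-C.M) = -fromBlocks (-C.Xm) 0 0 C.M := by simp [Matrix.fromBlocks_neg]
    rw [e, transpose_neg, Matrix.neg_mul, Matrix.neg_mul, Matrix.mul_neg, neg_neg]
    exact hR
  have hM' : IsUnit (-C.M - 1) := by rw [← neg_add']; exact C.hM2.neg
  obtain ⟨e2, hGm, hO, tO, uO⟩ := isometry_blocks hm hM' hR' tR uR
  refine ⟨_, _, _, ?_, hGp, hGm, ?_, tO, uO⟩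
  · rw [← e2]; exact e1
  · rw [transpose_neg, Matrix.neg_mul, Matrix.neg_mul, Matrix.mul_neg, neg_neg] at hO
    exact hO

theorem Coords.exists_congr (h2 : (2 : F) ≠ 0) (C : Coords A)
    {G G' : Matrix (Ix C.dp ⊕ (Ix C.dm ⊕ Fin C.b)) (Ix C.dp ⊕ (Ix C.dm ⊕ Fin C.b)) F}
    (h : C.Lᵀ * G * C.L = G) (hG : Gᵀ = -G) (hu : IsUnit G)
    (h' : C.Lᵀ * G' * C.L = G') (hG' : G'ᵀ = -G') (hu' : IsUnit G') (hs : C.signs G = C.signs G') :
    ∃ U, U * C.L = C.L * U ∧ Uᵀ * G * U = G' := by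
  obtain ⟨Gp, Gm, Go, rfl, ⟨p1, p2, p3⟩, ⟨q1, q2, q3⟩, o1, o2, o3⟩ := C.blocks h2 h hG hu
  obtain ⟨Gp', Gm', Go', rfl, ⟨p1', p2', p3'⟩, ⟨q1', q2', q3'⟩, o1', o2', o3'⟩ := C.blocks h2 h' hG' hu'
  simp only [Coords.signs, toBlocks_fromBlocks₁₁, toBlocks_fromBlocks₂₂, Prod.mk.injEq] at hs
  obtain ⟨Up, cp, -, ep⟩ := congr_of_signSet h2 C.hdp C.hp1 C.hp2 p1 p2 p3 p1' p2' p3' hs.1
  obtain ⟨Um, cm, -, em⟩ := congr_of_signSet h2 C.hdm C.hm1 C.hm2 q1 q2 q3 q1' q2' q3' hs.2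
  obtain ⟨Uo, co, -, eo⟩ := congr_no_root C.hM1 C.hM2 o1 o2 o3 o1' o2' o3'
  refine ⟨fromBlocks Up 0 0 (fromBlocks Um 0 0 Uo), ?_, ?_⟩
  · simp [Coords.L, Matrix.fromBlocks_multiply, cp, cm, co]
  · simp [Matrix.fromBlocks_transpose, Matrix.fromBlocks_multiply, ep, em, eo]

/-- Isometries similar to `A`: at most one class for each choice of square classes. -/
theorem Coords.card_similar_le (h2 : (2 : F) ≠ 0) (C : Coords A) {J : Matrix (Fin m) (Fin m) F}
    (hJ : Jᵀ = -J) (hJu : IsUnit J) {K : Type*} [Finite K] (B : K → Matrix (Fin m) (Fin m) F)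
    (hB : ∀ k, (B k)ᵀ * J * B k = J) (T : K → GL (Fin m) F)
    (hT : ∀ k, (T k : Matrix (Fin m) (Fin m) F) * A = B k * T k)
    (hinj : ∀ k k' (Z : Matrix (Fin m) (Fin m) F), Zᵀ * J * Z = J → Z * B k = B k' * Z → k = k') :
    Nat.card K ≤ 2 ^ (evenParts C.dp).card * 2 ^ (evenParts C.dm).card := by
  classical
  have hL : A * C.P = C.P * C.L := C.eq
  let TP := fun k => (T k : Matrix (Fin m) (Fin m) F) * C.P
  let QT := fun k => C.Q * ((T k)⁻¹ : GL (Fin m) F).1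
  have hTQ : ∀ k, TP k * QT k = 1 ∧ QT k * TP k = 1 := fun k => by
    constructor
    · simp only [TP, QT, Matrix.mul_assoc]
      rw [← Matrix.mul_assoc C.P, C.hPQ, Matrix.one_mul, Units.mul_inv]
    · simp only [TP, QT, Matrix.mul_assoc]
      rw [← Matrix.mul_assoc ((T k)⁻¹ : GL (Fin m) F).1, Units.inv_mul, Matrix.one_mul, C.hQP]
  have hBT : ∀ k, B k * TP k = TP k * C.L := fun k => by
    simp only [TP]
    rw [← Matrix.mul_assoc, ← hT, Matrix.mul_assoc, hL, ← Matrix.mul_assoc]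
  have hBQ : ∀ k, QT k * B k = C.L * QT k := fun k => by
    calc QT k * B k = QT k * B k * (TP k * QT k) := by rw [(hTQ k).1, Matrix.mul_one]
      _ = QT k * (B k * TP k) * QT k := by simp only [Matrix.mul_assoc]
      _ = QT k * TP k * C.L * QT k := by rw [hBT, ← Matrix.mul_assoc (QT k)]
      _ = _ := by rw [(hTQ k).2, Matrix.one_mul]
  let G := fun k => (TP k)ᵀ * J * TP k
  have hGiso : ∀ k, C.Lᵀ * G k * C.L = G k := fun k => by
    calc C.Lᵀ * G k * C.L = (TP k * C.L)ᵀ * J * (TP k * C.L) := by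
          simp only [G, transpose_mul, Matrix.mul_assoc]
      _ = (TP k)ᵀ * ((B k)ᵀ * J * B k) * TP k := by
          rw [← hBT, transpose_mul]; simp only [Matrix.mul_assoc]
      _ = G k := by rw [hB]
  have hGskew : ∀ k, (G k)ᵀ = -G k := fun k => by
    simp only [G, transpose_mul, transpose_transpose, hJ, Matrix.neg_mul, Matrix.mul_neg, Matrix.mul_assoc]
  have hGu : ∀ k, IsUnit (G k) := fun k => by
    obtain ⟨j, hj⟩ := hJu
    refine IsUnit.of_mul_eq_one (QT k * (↑j⁻¹ : Matrix (Fin m) (Fin m) F) * (QT k)ᵀ) ?_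
    calc G k * (QT k * (↑j⁻¹ : Matrix (Fin m) (Fin m) F) * (QT k)ᵀ)
        = (TP k)ᵀ * (J * (TP k * QT k) * (↑j⁻¹ : Matrix (Fin m) (Fin m) F)) * (QT k)ᵀ := by
          simp only [G, Matrix.mul_assoc]
      _ = 1 := by
          rw [(hTQ k).1, Matrix.mul_one, ← hj, j.mul_inv, Matrix.mul_one, ← transpose_mul, (hTQ k).2,
            transpose_one]
  have hsub : ∀ k, C.signs (G k) ∈ (evenParts C.dp).powerset ×ˢ (evenParts C.dm).powerset := fun k => by
    simp only [Finset.mem_product, Finset.mem_powerset, Coords.signs, signSet]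
    exact ⟨Finset.filter_subset _ _, Finset.filter_subset _ _⟩
  refine (Nat.card_le_card_of_injective
    (fun k => (⟨C.signs (G k), hsub k⟩ : ((evenParts C.dp).powerset ×ˢ (evenParts C.dm).powerset : Finset _)))
    fun k k' h => ?_).trans (le_of_eq (by rw [Nat.card_eq_finsetCard, Finset.card_product, Finset.card_powerset, Finset.card_powerset]))
  obtain ⟨U, hUc, hU⟩ := C.exists_congr h2 (hGiso k) (hGskew k) (hGu k) (hGiso k') (hGskew k') (hGu k')
    (congrArg Subtype.val h)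
  refine (hinj k' k (TP k * U * QT k') ?_ ?_).symm
  · calc (TP k * U * QT k')ᵀ * J * (TP k * U * QT k')
        = (QT k')ᵀ * (Uᵀ * G k * U) * QT k' := by simp only [G, transpose_mul, Matrix.mul_assoc]
      _ = (TP k' * QT k')ᵀ * J * (TP k' * QT k') := by
          rw [hU]; simp only [G, transpose_mul, Matrix.mul_assoc]
      _ = J := by rw [(hTQ k').1, transpose_one, Matrix.one_mul, Matrix.mul_one]
  · calc TP k * U * QT k' * B k' = TP k * U * (C.L * QT k') := by rw [Matrix.mul_assoc _ (QT k'), hBQ]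
      _ = TP k * (C.L * U) * QT k' := by rw [← hUc]; simp only [Matrix.mul_assoc]
      _ = B k * (TP k * U * QT k') := by
          rw [← Matrix.mul_assoc (TP k), ← hBT]; simp only [Matrix.mul_assoc]

end CfsgLib.SpClassNum
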