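import Mathlib
import Cfsg.Agent.Lib.SpClassNum.Classify
import Cfsg.Agent.Lib.SpecUnitary.UClassTools

/-!
Elementary divisors of isometries of an alternating form: they are invariant under reciprocals, and the divisors
at `±1` are read off the shift coordinates.
-/

set_option autoImplicit false

namespace CfsgLib.SpClassNum

open Polynomial Matrix CfsgLib.SympUnip CfsgLib.UnitaryUnip CfsgLib.SpecGL CfsgLib.SpecUnitary

universe u

variable {F : Type u} [Field F]

theorem natCard_ker_of_equiv {ι κ : Type*} [Fintype ι] [DecidableEq ι] [Fintype κ] [DecidableEq κ]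
    {A : Matrix ι ι F} {L : Matrix κ κ F} {P : Matrix ι κ F} {Q : Matrix κ ι F} (hPQ : P * Q = 1)
    (hQP : Q * P = 1) (h : A * P = P * L) :
    Nat.card {v : ι → F // A *ᵥ v = 0} = Nat.card {w : κ → F // L *ᵥ w = 0} := by
  let e : (κ → F) ≃ (ι → F) :=
    { toFun := fun w => P *ᵥ w
      invFun := fun v => Q *ᵥ v
      left_inv := fun w => by simp [Matrix.mulVec_mulVec, hQP]
      right_inv := fun v => by simp [Matrix.mulVec_mulVec, hPQ] }
  refine (Nat.card_congr (e.subtypeEquiv fun w => ?_)).symm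
  change L *ᵥ w = 0 ↔ A *ᵥ (P *ᵥ w) = 0
  rw [Matrix.mulVec_mulVec, h, ← Matrix.mulVec_mulVec]
  refine ⟨fun hh => by rw [hh, Matrix.mulVec_zero], fun hh => ?_⟩
  have := congrArg (Q *ᵥ ·) hh
  simpa [Matrix.mulVec_mulVec, ← Matrix.mul_assoc, hQP] using this

theorem natCard_ker_unit_mul {ι : Type*} [Fintype ι] [DecidableEq ι] {W : Matrix ι ι F} (hW : IsUnit W)
    (X : Matrix ι ι F) :
    Nat.card {v : ι → F // (W * X) *ᵥ v = 0} = Nat.card {v : ι → F // X *ᵥ v = 0} := by
  have hinj := Matrix.mulVec_injective_iff_isUnit.2 hW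
  refine Nat.card_congr (Equiv.subtypeEquivRight fun v => ?_)
  rw [← Matrix.mulVec_mulVec]
  exact ⟨fun h => hinj (h.trans (Matrix.mulVec_zero _).symm), fun h => by rw [h, Matrix.mulVec_zero]⟩

theorem natCard_ker_blocks {α β : Type*} [Fintype α] [DecidableEq α] [Fintype β] [DecidableEq β]
    (X : Matrix α α F) {Y : Matrix β β F} (hY : IsUnit Y) :
    Nat.card {v : α ⊕ β → F // fromBlocks X 0 0 Y *ᵥ v = 0} = Nat.card {v : α → F // X *ᵥ v = 0} ∧
    Nat.card {v : β ⊕ α → F // fromBlocks Y 0 0 X *ᵥ v = 0} = Nat.card {v : α → F // X *ᵥ v = 0} := by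
  have hinj := Matrix.mulVec_injective_iff_isUnit.2 hY
  constructor
  · refine Nat.card_congr
      { toFun := fun v => ⟨v.1 ∘ Sum.inl, ?_⟩
        invFun := fun w => ⟨Sum.elim w.1 0, ?_⟩
        left_inv := fun v => ?_
        right_inv := fun w => Subtype.ext (funext fun i => rfl) }
    · have h := v.2
      rw [Matrix.fromBlocks_mulVec] at h
      simpa using congrArg (fun z => z ∘ Sum.inl) h
    · rw [Matrix.fromBlocks_mulVec]
      simp [w.2]
    · have h := v.2
      rw [Matrix.fromBlocks_mulVec] at h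
      have h2 : Y *ᵥ (v.1 ∘ Sum.inr) = Y *ᵥ 0 := by
        simpa using congrArg (fun z => z ∘ Sum.inr) h
      refine Subtype.ext ?_
      conv_rhs => rw [← Sum.elim_comp_inl_inr v.1]
      rw [hinj h2]
  · refine Nat.card_congr
      { toFun := fun v => ⟨v.1 ∘ Sum.inr, ?_⟩
        invFun := fun w => ⟨Sum.elim 0 w.1, ?_⟩
        left_inv := fun v => ?_
        right_inv := fun w => Subtype.ext (funext fun i => rfl) }
    · have h := v.2
      rw [Matrix.fromBlocks_mulVec] at h
      simpa using congrArg (fun z => z ∘ Sum.inr) h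
    · rw [Matrix.fromBlocks_mulVec]
      simp [w.2]
    · have h := v.2
      rw [Matrix.fromBlocks_mulVec] at h
      have h2 : Y *ᵥ (v.1 ∘ Sum.inl) = Y *ᵥ 0 := by
        simpa using congrArg (fun z => z ∘ Sum.inl) h
      refine Subtype.ext ?_
      conv_rhs => rw [← Sum.elim_comp_inl_inr v.1]
      rw [hinj h2]

theorem fromBlocks_diag_pow {α β : Type*} [Fintype α] [DecidableEq α] [Fintype β] [DecidableEq β]
    (X : Matrix α α F) (Y : Matrix β β F) :
    ∀ j : ℕ, fromBlocks X 0 0 Y ^ j = fromBlocks (X ^ j) 0 0 (Y ^ j)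
  | 0 => by simp [Matrix.fromBlocks_one]
  | j + 1 => by rw [pow_succ, fromBlocks_diag_pow X Y j, Matrix.fromBlocks_multiply]; simp [pow_succ]

theorem fromBlocks_sub_scalar {α β : Type*} [Fintype α] [DecidableEq α] [Fintype β] [DecidableEq β]
    (X : Matrix α α F) (Y : Matrix β β F) (c : F) :
    fromBlocks X 0 0 Y - c • (1 : Matrix (α ⊕ β) (α ⊕ β) F) = fromBlocks (X - c • 1) 0 0 (Y - c • 1) := by
  rw [← Matrix.fromBlocks_one, Matrix.fromBlocks_smul, sub_eq_add_neg, Matrix.fromBlocks_neg,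
    Matrix.fromBlocks_add]
  simp [sub_eq_add_neg]

variable [Fintype F]

theorem natCard_ker_rank {ι : Type*} [Fintype ι] [DecidableEq ι] (M : Matrix ι ι F) :
    Nat.card {v : ι → F // M *ᵥ v = 0} = Fintype.card F ^ (Fintype.card ι - M.rank) := by
  classical
  have h := LinearMap.finrank_range_add_finrank_ker M.mulVecLin
  rw [Module.finrank_pi] at h
  have hk : Nat.card {v : ι → F // M *ᵥ v = 0} = Nat.card (LinearMap.ker M.mulVecLin) :=
    Nat.card_congr (Equiv.subtypeEquivRight fun v => by rw [LinearMap.mem_ker, Matrix.mulVecLin_apply])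
  haveI : Fintype (LinearMap.ker M.mulVecLin) := Fintype.ofFinite _
  rw [hk, Nat.card_eq_fintype_card, Module.card_eq_pow_finrank (K := F)]
  congr 1
  rw [Matrix.rank]
  omega

/-- Kernels of powers of a unipotent matrix in shift coordinates. -/
theorem natCard_ker_shift {t : ℕ} {d : Fin t → ℕ} (hd : ∀ k, 0 < d k) {X : Matrix (Ix d) (Ix d) F}
    (h1 : IsUnit (X + 1)) (h2 : cay X = jshift d) (p : F[X]) (j : ℕ) :
    Nat.card {v : Ix d → F // (X - 1) ^ j *ᵥ v = 0} =
      Fintype.card F ^ levelSum p (Finset.univ.val.map fun k => (p, d k)) j := by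
  classical
  have hc : Commute (X + 1) (cay X) := by
    show (X + 1) * cay X = cay X * (X + 1)
    refine h1.mul_right_cancel ?_
    rw [Matrix.mul_assoc (X + 1), cay_mul h1]
    noncomm_ring
  rw [show X - 1 = (X + 1) * cay X by rw [hc.eq, cay_mul h1], hc.mul_pow, natCard_ker_unit_mul (h1.pow j),
    h2, natCard_ker_rank]
  have hp := Cfsg.Agent.JordanForm57.jordan_profile (F := F) d hd j
  rw [jordan_sub_one] at hp
  rw [hp]
  congr 1
  simp only [CfsgLib.RankProfile.partProfile, Cfsg.Agent.JordanForm57.partsOf, levelSum, Multiset.map_map,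
    Function.comp_def, if_true]
  have hsum : ∑ k, (d k - j) + ∑ k, min j (d k) = ∑ k, d k := by
    rw [← Finset.sum_add_distrib]
    exact Finset.sum_congr rfl fun k _ => by omega
  have hcard : Fintype.card (Ix d) = ∑ k, d k := by simp
  change Fintype.card (Ix d) - ∑ k, (d k - j) = ∑ k, min j (d k)
  omega

theorem count_of_levelSum [DecidableEq F[X]] {p : F[X]} {s : Multiset (F[X] × ℕ)} {t : ℕ} {d : Fin t → ℕ}
    (h : ∀ j, levelSum p s j = levelSum p (Finset.univ.val.map fun k => (p, d k)) j) (j : ℕ) :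
    s.count (p, j + 1) = Fintype.card {k // d k = j + 1} := by
  have h1 := levelSum_count p j s
  have h2 := levelSum_count p j (Finset.univ.val.map fun k => (p, d k))
  rw [h, h, h] at h1
  have h3 : (Finset.univ.val.map fun k => (p, d k)).count (p, j + 1) = Fintype.card {k // d k = j + 1} := by
    rw [Multiset.count_map, Fintype.card_subtype, Finset.card_def, Finset.filter_val]
    exact congrArg Multiset.card (Multiset.filter_congr fun k _ => by simp [eq_comm])
  omega

variable {m : ℕ} {A : Matrix (Fin m) (Fin m) F} {s : Multiset (F[X] × ℕ)}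

theorem aeval_sub_C_pow (A : Matrix (Fin m) (Fin m) F) (c : F) (j : ℕ) :
    aeval A ((X - C c) ^ j) = (A - c • 1) ^ j := by
  rw [map_pow, map_sub, aeval_X, aeval_C, Algebra.algebraMap_eq_smul_one]

/-- The divisors `(X - 1)^e` correspond to the parts at `1`. -/
theorem Coords.count_one [DecidableEq F[X]] (C' : Coords A) (hs : GoodDivisors s) (h : HasDivisors A s)
    (j : ℕ) : s.count (X - Polynomial.C 1, j + 1) = Fintype.card {k // C'.dp k = j + 1} := by
  refine count_of_levelSum (fun i => Nat.pow_right_injective (Fintype.one_lt_card (α := F)) ?_) j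
  change Fintype.card F ^ _ = Fintype.card F ^ _
  have hk := natCard_ker_aeval hs h (monic_X_sub_C (1 : F)) (irreducible_X_sub_C 1) i
  rw [natDegree_X_sub_C, one_mul, aeval_sub_C_pow] at hk
  have hAP : A * C'.P = C'.P * C'.L := C'.eq
  have hpow : (A - (1 : F) • 1) ^ i * C'.P =
      C'.P * fromBlocks ((C'.Xp - 1) ^ i) 0 0 ((fromBlocks (-C'.Xm) 0 0 C'.M - 1) ^ i) := by
    have e : C'.L - (1 : F) • 1 = fromBlocks (C'.Xp - 1) 0 0 (fromBlocks (-C'.Xm) 0 0 C'.M - 1) := by
      rw [Coords.L, fromBlocks_sub_scalar, one_smul, one_smul]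
    rw [← fromBlocks_diag_pow, ← e]
    clear hk
    induction i with
    | zero => simp
    | succ i ih =>
      rw [pow_succ, Matrix.mul_assoc, Matrix.sub_mul, hAP, one_smul, Matrix.one_mul,
        show C'.P * C'.L - C'.P = C'.P * (C'.L - 1) by rw [Matrix.mul_sub, Matrix.mul_one],
        ← Matrix.mul_assoc, ← one_smul F (1 : Matrix (Fin m) (Fin m) F), ih, one_smul, Matrix.mul_assoc,
        ← pow_succ]
  have hu : IsUnit ((fromBlocks (-C'.Xm) 0 0 C'.M - 1) ^ i) := by
    refine IsUnit.pow i ?_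
    rw [← one_smul F (1 : Matrix (Ix C'.dm ⊕ Fin C'.b) (Ix C'.dm ⊕ Fin C'.b) F), fromBlocks_sub_scalar,
      one_smul, one_smul, Matrix.isUnit_fromBlocks_zero₁₂, ← neg_add']
    exact ⟨C'.hm1.neg, C'.hM1⟩
  rw [natCard_ker_of_equiv C'.hPQ C'.hQP hpow, (natCard_ker_blocks _ hu).1,
    natCard_ker_shift C'.hdp C'.hp1 C'.hp2 (X - Polynomial.C 1)] at hk
  exact hk.symm

/-- The divisors `(X + 1)^e` correspond to the parts at `-1`. -/
theorem Coords.count_neg_one [DecidableEq F[X]] (h2 : (2 : F) ≠ 0) (C' : Coords A) (hs : GoodDivisors s)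
    (h : HasDivisors A s) (j : ℕ) :
    s.count (X - Polynomial.C (-1 : F), j + 1) = Fintype.card {k // C'.dm k = j + 1} := by
  refine count_of_levelSum (fun i => Nat.pow_right_injective (Fintype.one_lt_card (α := F)) ?_) j
  change Fintype.card F ^ _ = Fintype.card F ^ _
  have hk := natCard_ker_aeval hs h (monic_X_sub_C (-1 : F)) (irreducible_X_sub_C (-1)) i
  rw [natDegree_X_sub_C, one_mul, aeval_sub_C_pow] at hk
  have hAP : A * C'.P = C'.P * C'.L := C'.eq
  have hpow : (A - (-1 : F) • 1) ^ i * C'.P =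
      C'.P * fromBlocks ((C'.Xp + 1) ^ i) 0 0 (fromBlocks ((-(C'.Xm - 1)) ^ i) 0 0 ((C'.M + 1) ^ i)) := by
    have e : C'.L - (-1 : F) • 1 = fromBlocks (C'.Xp + 1) 0 0 (fromBlocks (-(C'.Xm - 1)) 0 0 (C'.M + 1)) := by
      rw [Coords.L, fromBlocks_sub_scalar, fromBlocks_sub_scalar]
      simp only [neg_smul, one_smul, sub_neg_eq_add, neg_sub, neg_add_eq_sub]
    rw [← fromBlocks_diag_pow, ← fromBlocks_diag_pow, ← e]
    clear hk
    induction i with
    | zero => simp
    | succ i ih =>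
      rw [pow_succ, pow_succ, Matrix.mul_assoc, Matrix.sub_mul, hAP,
        show C'.P * C'.L - (-1 : F) • (1 : Matrix (Fin m) (Fin m) F) * C'.P = C'.P * (C'.L - (-1 : F) • 1) by
          rw [Matrix.mul_sub, Matrix.smul_mul, Matrix.one_mul, Matrix.mul_smul, Matrix.mul_one],
        ← Matrix.mul_assoc, ih, Matrix.mul_assoc]
  have hp : IsUnit ((C'.Xp + 1) ^ i) := C'.hp1.pow i
  have hM : IsUnit ((C'.M + 1) ^ i) := C'.hM2.pow i
  rw [natCard_ker_of_equiv C'.hPQ C'.hQP hpow, (natCard_ker_blocks _ hp).2, (natCard_ker_blocks _ hM).1,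
    neg_pow (C'.Xm - 1), natCard_ker_unit_mul ((isUnit_one (M := Matrix (Ix C'.dm) (Ix C'.dm) F)).neg.pow i),
    natCard_ker_shift C'.hdm C'.hm1 C'.hm2 (X - Polynomial.C (-1 : F))] at hk
  exact hk.symm

theorem natCard_ker_aeval_inv {J : Matrix (Fin m) (Fin m) F} (hJu : IsUnit J.det)
    (f : F[X]) :
    Nat.card {v : Fin m → F // aeval (J⁻¹ * Aᵀ * J) f *ᵥ v = 0} =
      Nat.card {v : Fin m → F // aeval A f *ᵥ v = 0} := by
  have hJJ : J⁻¹ * J = 1 := Matrix.nonsing_inv_mul _ hJu
  have hJJ' : J * J⁻¹ = 1 := Matrix.mul_nonsing_inv _ hJu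
  have hf : aeval (J⁻¹ * Aᵀ * J) f = J⁻¹ * (aeval A f)ᵀ * J := by
    induction f using Polynomial.induction_on with
    | C a =>
      rw [aeval_C, aeval_C, Algebra.algebraMap_eq_smul_one, transpose_smul,
        transpose_one, Matrix.mul_smul, Matrix.smul_mul, Matrix.mul_one, hJJ]
    | add P Q hP hQ => simp only [map_add, hP, hQ, transpose_add, Matrix.mul_add, Matrix.add_mul]
    | monomial k a ih =>
      rw [pow_succ, ← mul_assoc, map_mul, aeval_X, ih, map_mul (aeval A) _ X, aeval_X,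
        show aeval A (Polynomial.C a * X ^ k) * A = A * aeval A (Polynomial.C a * X ^ k) from
          (commute_aeval rfl _).trans rfl, transpose_mul]
      simp only [Matrix.mul_assoc]
      rw [← Matrix.mul_assoc J J⁻¹, hJJ', Matrix.one_mul]
  rw [hf, Matrix.mul_assoc, natCard_ker_unit_mul
      ((Matrix.isUnit_iff_isUnit_det _).2 (Matrix.isUnit_nonsing_inv_det _ hJu))]
  rw [natCard_ker_of_equiv (A := (aeval A f)ᵀ * J) (L := J * (aeval A f)ᵀ) hJJ hJJ'
      (by rw [Matrix.mul_assoc, hJJ', Matrix.mul_one, ← Matrix.mul_assoc, hJJ, Matrix.one_mul]),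
    natCard_ker_unit_mul ((Matrix.isUnit_iff_isUnit_det _).2 hJu), natCard_ker_eq_rank, natCard_ker_eq_rank,
    Matrix.rank_transpose]

theorem divisors_reverse_invariant {J : Matrix (Fin m) (Fin m) F} (hJu : IsUnit J.det)
    (hA : Aᵀ * J * A = J) (hs : GoodDivisors s) (h : HasDivisors A s) :
    s.map (fun x => (conjRev (RingHom.id F) x.1, x.2)) = s := by
  classical
  have hinv : J⁻¹ * Aᵀ * J * A = 1 := by
    rw [Matrix.mul_assoc, Matrix.mul_assoc, ← Matrix.mul_assoc Aᵀ, hA, Matrix.nonsing_inv_mul _ hJu]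
  have hτ2 : ∀ x, RingHom.id F (RingHom.id F x) = x := fun _ => rfl
  have hlev : ∀ p : F[X], p.Monic → Irreducible p → p.coeff 0 ≠ 0 → ∀ j,
      levelSum (conjRev (RingHom.id F) p) s j = levelSum p s j := by
    intro p hm hp h0 j
    have hker : Nat.card {v : Fin m → F // (aeval A (conjRev (RingHom.id F) p ^ j)) *ᵥ v = 0} =
        Nat.card {v : Fin m → F // (aeval A (p ^ j)) *ᵥ v = 0} := by
      rw [← conjRev_pow, ← natCard_ker_aeval_inv hJu (p ^ j), conjRev, map_mul, aeval_C, reverse,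
        aeval_reflect_of_inv hinv _ _ le_rfl, Polynomial.map_id, ← mul_assoc, natCard_ker_unit_mul]
      have h0' : ((p ^ j).coeff 0) ≠ 0 := by
        rw [coeff_zero_eq_eval_zero, eval_pow, ← coeff_zero_eq_eval_zero]
        exact pow_ne_zero _ h0
      exact ((isUnit_iff_ne_zero.2 (inv_ne_zero h0')).map (algebraMap F (Matrix (Fin m) (Fin m) F))).mul
        ((isUnit_iff_exists_inv'.2 ⟨_, hinv⟩).pow _)
    rw [natCard_ker_aeval hs h (monic_conjRev h0) (irreducible_conjRev hτ2 hm h0 hp),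
      natCard_ker_aeval hs h hm hp, natDegree_conjRev h0] at hker
    exact Nat.eq_of_mul_eq_mul_left hp.natDegree_pos (Nat.pow_right_injective Fintype.one_lt_card hker)
  have hcount : ∀ x ∈ s, s.count (conjRev (RingHom.id F) x.1, x.2) = s.count x := by
    intro x hx
    obtain ⟨hm, hp, h0, he⟩ := hs x hx
    obtain ⟨j, hj⟩ : ∃ j, x.2 = j + 1 := ⟨x.2 - 1, by omega⟩
    have h1 := levelSum_count x.1 j s
    have h2 := levelSum_count (conjRev (RingHom.id F) x.1) j s
    rw [hlev x.1 hm hp h0, hlev x.1 hm hp h0, hlev x.1 hm hp h0] at h2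
    rw [show x = (x.1, j + 1) from Prod.ext rfl hj]
    simp only
    omega
  refine Multiset.ext.2 fun y => ?_
  rw [Multiset.count_map]
  by_cases hy : y.1.Monic ∧ y.1.coeff 0 ≠ 0
  · have hfilt : (s.filter fun a => y = (conjRev (RingHom.id F) a.1, a.2)) =
        s.filter fun a => (conjRev (RingHom.id F) y.1, y.2) = a := by
      refine Multiset.filter_congr fun a ha => ⟨fun hya => ?_, fun hya => ?_⟩
      · rw [hya]; exact Prod.ext (conjRev_conjRev hτ2 (hs a ha).1 (hs a ha).2.2.1) rfl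
      · rw [← hya]; exact Prod.ext (conjRev_conjRev hτ2 hy.1 hy.2).symm rfl
    rw [hfilt, ← Multiset.count_eq_card_filter_eq]
    by_cases hys : y ∈ s
    · exact hcount y hys
    · rw [Multiset.count_eq_zero.2 hys]
      by_contra hne
      have hmem : (conjRev (RingHom.id F) y.1, y.2) ∈ s := Multiset.count_ne_zero.1 hne
      have h2 := hcount _ hmem
      rw [show ((conjRev (RingHom.id F) (conjRev (RingHom.id F) y.1), y.2) : F[X] × ℕ) = y from
        Prod.ext (conjRev_conjRev hτ2 hy.1 hy.2) rfl, Multiset.count_eq_zero.2 hys] at h2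
      exact hne h2.symm
  · rw [Multiset.count_eq_zero.2 fun hm => hy ⟨(hs y hm).1, (hs y hm).2.2.1⟩, Multiset.card_eq_zero,
      Multiset.filter_eq_nil]
    intro a ha hya
    exact hy ⟨hya ▸ monic_conjRev (hs a ha).2.2.1,
      hya ▸ coeff_zero_conjRev_ne (hs a ha).1 (hs a ha).2.2.1⟩

/-- Odd parts at `±1` of an isometry occur evenly often. -/
theorem Coords.even_odd_parts (h2 : (2 : F) ≠ 0) (C' : Coords A) {J : Matrix (Fin m) (Fin m) F}
    (hJ : Jᵀ = -J) (hJu : IsUnit J) (hA : Aᵀ * J * A = J) {a : ℕ} (ha : Odd a) :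
    Even (Fintype.card {k // C'.dp k = a}) ∧ Even (Fintype.card {k // C'.dm k = a}) := by
  have hL : A * C'.P = C'.P * C'.L := C'.eq
  set G := C'.Pᵀ * J * C'.P with hG
  have hiso : C'.Lᵀ * G * C'.L = G := by
    calc C'.Lᵀ * G * C'.L = (C'.P * C'.L)ᵀ * J * (C'.P * C'.L) := by
          simp only [hG, transpose_mul, Matrix.mul_assoc]
      _ = C'.Pᵀ * (Aᵀ * J * A) * C'.P := by rw [← hL, transpose_mul]; simp only [Matrix.mul_assoc]
      _ = G := by rw [hA]
  have hskew : Gᵀ = -G := by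
    simp only [hG, transpose_mul, transpose_transpose, hJ, Matrix.neg_mul, Matrix.mul_neg, Matrix.mul_assoc]
  have hu : IsUnit G := by
    obtain ⟨j, hj⟩ := hJu
    refine IsUnit.of_mul_eq_one (C'.Q * (↑j⁻¹ : Matrix (Fin m) (Fin m) F) * C'.Qᵀ) ?_
    calc G * (C'.Q * (↑j⁻¹ : Matrix (Fin m) (Fin m) F) * C'.Qᵀ)
        = C'.Pᵀ * (J * (C'.P * C'.Q) * (↑j⁻¹ : Matrix (Fin m) (Fin m) F)) * C'.Qᵀ := by
          simp only [hG, Matrix.mul_assoc]
      _ = 1 := by
          rw [C'.hPQ, Matrix.mul_one, ← hj, j.mul_inv, Matrix.mul_one, ← transpose_mul, C'.hQP, transpose_one]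
  obtain ⟨Gp, Gm, Go, -, ⟨p1, p2, p3⟩, ⟨q1, q2, q3⟩, -⟩ := C'.blocks h2 hiso hskew hu
  exact ⟨even_card_of_odd C'.hdp h2 (isSkewForm_of_isometry C'.hp1 C'.hp2 p1 p2) p3 ha,
    even_card_of_odd C'.hdm h2 (isSkewForm_of_isometry C'.hm1 C'.hm2 q1 q2) q3 ha⟩

end CfsgLib.SpClassNum
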