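import Mathlib
import Cfsg.Agent.Lib.SpecUnitary.ConjPoly

/-!
Weighted tuples of reciprocal polynomials: the classes of `Sp_2n(q)`, `q` odd, are bounded by
`q^n ∏ (1+q^-i)^4/(1-q^-i)`.
-/

set_option autoImplicit false

namespace CfsgLib.SpClassNum

open Polynomial Finset CfsgLib.SpecGL CfsgLib.SpecUnitary

/-- number of reciprocal monic polynomials of degree `D` -/
def recipCount (q D : ℕ) : ℕ :=
  if D = 0 then 1 else if D % 2 = 1 then 2 * q ^ (D / 2) else (q + 1) * q ^ (D / 2 - 1)

/-- weighted number of divisor polynomials at an even exponent -/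
def evenCount (q D : ℕ) : ℕ :=
  recipCount q D + 2 * (if 1 ≤ D then recipCount q (D - 1) else 0) +
    (if 2 ≤ D then recipCount q (D - 2) else 0)

/-- weighted number of divisor polynomials at exponent `e` -/
def partCount (q e D : ℕ) : ℕ :=
  if e % 2 = 0 then evenCount q D else if D % 2 = 1 then 0 else q ^ (D / 2)

/-- bound for the number of weighted tuples -/
def spCount (q : ℕ) : ℕ → ℕ → ℕ
  | 0, N => if N = 0 then 1 else 0
  | r + 1, N => ∑ d ∈ range (N / (r + 1) + 1), partCount q (r + 1) d * spCount q r (N - (r + 1) * d)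

section numeric

variable {q : ℕ}

/-- `∏_{k ≤ R} (1 + 3^-k)^4` -/
noncomputable def plusProd (R : ℕ) : ℝ := ∏ k ∈ range R, (1 + 1 / 3 ^ (k + 1)) ^ 4

/-- `∏_{k ≤ R} 1/(1 - 3^-k)` -/
noncomputable def minusProd (R : ℕ) : ℝ := ∏ k ∈ range R, 1 / (1 - 1 / 3 ^ (k + 1))

theorem third_pow_le (k : ℕ) : (1 : ℝ) / 3 ^ (k + 1) ≤ 1 / 3 := by
  refine div_le_div_of_nonneg_left zero_le_one (by norm_num) ?_
  exact le_self_pow₀ (by norm_num) (by omega)

theorem plusProd_mono : Monotone plusProd := by
  refine monotone_nat_of_le_succ fun R => ?_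
  rw [plusProd, plusProd, Finset.prod_range_succ]
  refine le_mul_of_one_le_right (Finset.prod_nonneg fun k _ => by positivity) (one_le_pow₀ ?_)
  exact le_add_of_nonneg_right (by positivity)

theorem minusProd_pos (R : ℕ) : 0 < minusProd R :=
  Finset.prod_pos fun k _ => one_div_pos.2 (by linarith [third_pow_le k])

theorem minusProd_mono : Monotone minusProd := by
  refine monotone_nat_of_le_succ fun R => ?_
  rw [minusProd, minusProd, Finset.prod_range_succ]
  refine le_mul_of_one_le_right (minusProd_pos R).le ?_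
  rw [le_div_iff₀ (by linarith [third_pow_le R]), one_mul]
  exact sub_le_self _ (by positivity)

theorem prod_bound : ∀ R, plusProd R * minusProd R ≤ 43 / 4 := by
  have h6 : ∀ k, plusProd (k + 6) * minusProd (k + 6) ≤ 43 / 4 - 57 / 2 / 3 ^ (k + 6) := by
    intro k
    induction k with
    | zero => norm_num [plusProd, minusProd, Finset.prod_range_succ]
    | succ k ih =>
      rw [show k + 1 + 6 = k + 6 + 1 by omega,
        show plusProd (k + 6 + 1) = plusProd (k + 6) * (1 + 1 / 3 ^ (k + 6 + 1)) ^ 4 from Finset.prod_range_succ _ _,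
        show minusProd (k + 6 + 1) = minusProd (k + 6) * (1 / (1 - 1 / 3 ^ (k + 6 + 1))) from Finset.prod_range_succ _ _,
        mul_mul_mul_comm]
      have hP : (729 : ℝ) ≤ 3 ^ (k + 6) :=
        le_trans (by norm_num) (pow_le_pow_right₀ (by norm_num) (show 6 ≤ k + 6 by omega))
      rw [pow_succ (3 : ℝ) (k + 6)]
      generalize (3 : ℝ) ^ (k + 6) = P at *
      have hP0 : 0 < P := by linarith
      set y : ℝ := 1 / (P * 3) with hy
      have hy0 : 0 ≤ y := by rw [hy]; positivity
      have hy1 : y ≤ 1 / 2187 := by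
        rw [hy]; exact div_le_div_of_nonneg_left zero_le_one (by norm_num) (by linarith)
      have hf : (1 + y) ^ 4 * (1 / (1 - y)) ≤ 1 + 51 / 10 * y := by
        rw [mul_one_div, div_le_iff₀ (by linarith)]
        nlinarith [mul_nonneg hy0 hy0, mul_le_mul_of_nonneg_left hy1 hy0,
          mul_le_mul_of_nonneg_left hy1 (mul_nonneg hy0 hy0),
          mul_le_mul_of_nonneg_left hy1 (mul_nonneg (mul_nonneg hy0 hy0) hy0)]
      refine (mul_le_mul ih hf (mul_nonneg (by positivity) (one_div_nonneg.2 (by linarith))) ?_).trans ?_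
      · have := div_le_div_of_nonneg_left (show (0 : ℝ) ≤ 57 / 2 by norm_num) (by norm_num) hP
        linarith
      · rw [hy]
        have key : 43 / 4 - 57 / 2 / (P * 3) - (43 / 4 - 57 / 2 / P) * (1 + 51 / 10 * (1 / (P * 3))) =
            (19 * P - 43 / 4 * (17 / 10) * P + 57 / 2 * (17 / 10)) / (P * P) := by
          field_simp
          ring
        have : 0 ≤ 43 / 4 - 57 / 2 / (P * 3) - (43 / 4 - 57 / 2 / P) * (1 + 51 / 10 * (1 / (P * 3))) := by
          rw [key]
          exact div_nonneg (by nlinarith) (mul_nonneg hP0.le hP0.le)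
        linarith
  intro R
  refine le_trans (mul_le_mul (plusProd_mono (show R ≤ R + 6 by omega)) (minusProd_mono (show R ≤ R + 6 by omega))
    (minusProd_pos R).le (Finset.prod_nonneg fun k _ => by positivity)) ((h6 R).trans ?_)
  exact sub_le_self _ (by positivity)

theorem sum_recip_le {y : ℝ} (hy : 0 ≤ y) (hq : (q : ℝ) * y ^ 2 < 1) (M : ℕ) :
    ∑ D ∈ range M, (recipCount q D : ℝ) * y ^ D ≤ (1 + y) ^ 2 / (1 - q * y ^ 2) := by
  have hsucc : ∀ k, ∑ D ∈ range (2 * k + 1), (recipCount q D : ℝ) * y ^ D =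
      1 + (2 * y + (q + 1) * y ^ 2) * ∑ d ∈ range k, ((q : ℝ) * y ^ 2) ^ d := by
    intro k
    induction k with
    | zero => simp [recipCount]
    | succ k ih =>
      rw [show 2 * (k + 1) + 1 = 2 * k + 1 + 1 + 1 by omega, Finset.sum_range_succ, Finset.sum_range_succ,
        ih, Finset.sum_range_succ]
      have h1 : recipCount q (2 * k + 1) = 2 * q ^ k := by
        rw [recipCount, if_neg (by omega), if_pos (by omega), show (2 * k + 1) / 2 = k by omega]
      have h2 : recipCount q (2 * k + 1 + 1) = (q + 1) * q ^ k := by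
        rw [recipCount, if_neg (by omega), if_neg (by omega), show (2 * k + 1 + 1) / 2 - 1 = k by omega]
      rw [h1, h2, mul_pow, ← pow_mul]
      push_cast
      ring
  refine le_trans (Finset.sum_le_sum_of_subset_of_nonneg (Finset.range_mono (show M ≤ 2 * M + 1 by omega))
    (fun D _ _ => mul_nonneg (Nat.cast_nonneg _) (pow_nonneg hy _))) ?_
  rw [hsucc, le_div_iff₀ (by linarith)]
  have hg : (∑ d ∈ range M, ((q : ℝ) * y ^ 2) ^ d) * (1 - q * y ^ 2) = 1 - ((q : ℝ) * y ^ 2) ^ M :=
    geom_sum_mul_neg _ _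
  have hp : 0 ≤ ((q : ℝ) * y ^ 2) ^ M := pow_nonneg (mul_nonneg (Nat.cast_nonneg q) (sq_nonneg y)) M
  have hc : 0 ≤ 2 * y + ((q : ℝ) + 1) * y ^ 2 := by positivity
  nlinarith [mul_nonneg hc hp]

theorem sum_even_le {y : ℝ} (hy : 0 ≤ y) (hq : (q : ℝ) * y ^ 2 < 1) (M : ℕ) :
    ∑ D ∈ range M, (evenCount q D : ℝ) * y ^ D ≤ (1 + y) ^ 4 / (1 - q * y ^ 2) := by
  have hsh : ∀ s : ℕ, ∑ D ∈ range M, ((if s ≤ D then recipCount q (D - s) else 0 : ℕ) : ℝ) * y ^ D ≤
      y ^ s * ((1 + y) ^ 2 / (1 - q * y ^ 2)) := by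
    intro s
    refine le_trans ?_ (mul_le_mul_of_nonneg_left (sum_recip_le hy hq M) (pow_nonneg hy s))
    rw [Finset.mul_sum]
    rw [← Finset.sum_filter_add_sum_filter_not (Finset.range M) (fun D => s ≤ D),
      Finset.sum_eq_zero (s := (Finset.range M).filter fun D => ¬ s ≤ D) (fun D hD => by
        rw [if_neg (Finset.mem_filter.1 hD).2, Nat.cast_zero, zero_mul]), add_zero]
    calc ∑ D ∈ (Finset.range M).filter (fun D => s ≤ D),
          ((if s ≤ D then recipCount q (D - s) else 0 : ℕ) : ℝ) * y ^ D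
        = ∑ D ∈ ((Finset.range M).filter (fun D => s ≤ D)).image (· - s),
            y ^ s * ((recipCount q D : ℝ) * y ^ D) := by
          rw [Finset.sum_image fun a ha b hb h => by
            simp only [Finset.coe_filter, Set.mem_ofPred_eq, Finset.mem_range] at ha hb; omega]
          refine Finset.sum_congr rfl fun D hD => ?_
          have hs := (Finset.mem_filter.1 hD).2
          rw [if_pos hs, mul_left_comm, ← pow_add, Nat.add_sub_cancel' hs]
      _ ≤ _ := Finset.sum_le_sum_of_subset_of_nonneg (fun D hD => by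
            obtain ⟨a, ha, rfl⟩ := Finset.mem_image.1 hD
            have := Finset.mem_range.1 (Finset.mem_filter.1 ha).1
            exact Finset.mem_range.2 (by omega))
          fun D _ _ => by positivity
  simp only [evenCount, Nat.cast_add, Nat.cast_mul, Nat.cast_ofNat, add_mul, Finset.sum_add_distrib, mul_assoc,
    ← Finset.mul_sum]
  refine (add_le_add (add_le_add (sum_recip_le hy hq M) (mul_le_mul_of_nonneg_left (hsh 1) zero_le_two))
    (hsh 2)).trans (le_of_eq ?_)
  ring

theorem spCount_le (hq : 3 ≤ q) : ∀ (r N : ℕ), 1 ≤ r →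
    (spCount q r N : ℝ) ≤ plusProd (r / 2) * minusProd (r - 1) * (√(q : ℝ)) ^ N := by
  have hq' : (3 : ℝ) ≤ q := by exact_mod_cast hq
  set s := √(q : ℝ) with hs
  have hs2 : s ^ 2 = q := Real.sq_sqrt (Nat.cast_nonneg q)
  have hs0 : 0 < s := Real.sqrt_pos.2 (by linarith)
  intro r
  induction r with
  | zero => intro N h; omega
  | succ r ih =>
    intro N _
    rcases Nat.eq_zero_or_pos r with hr | hr
    · subst hr
      have h1 : spCount q 1 N = if N % 2 = 1 then 0 else q ^ (N / 2) := by
        rw [spCount, Finset.sum_eq_single N]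
        · simp [spCount, partCount]
        · intro d hd hdN
          rw [Finset.mem_range] at hd
          simp only [spCount]
          rw [if_neg (by simp at hd ⊢; omega), mul_zero]
        · intro h; exact absurd (Finset.mem_range.2 (by simp)) h
      simp only [zero_add, Nat.sub_self, show 1 / 2 = 0 from rfl, plusProd, minusProd, Finset.range_zero,
        Finset.prod_empty, one_mul, h1]
      split_ifs with hN
      · rw [Nat.cast_zero]; positivity
      · rw [Nat.cast_pow, ← hs2, ← pow_mul, show 2 * (N / 2) = N by omega]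
    set B := plusProd (r / 2) * minusProd (r - 1) with hB
    have hB0 : 0 ≤ B := mul_nonneg (Finset.prod_nonneg fun k _ => by positivity) (minusProd_pos _).le
    set y : ℝ := (1 / s) ^ (r + 1) with hy
    have hy0 : 0 ≤ y := by positivity
    have hqy : (q : ℝ) * y ^ 2 = 1 / (q : ℝ) ^ r := by
      rw [hy, ← hs2, ← pow_mul, ← pow_mul, one_div_pow, show (r + 1) * 2 = 2 * r + 2 by ring, pow_add]
      field_simp
    have hqy3 : (q : ℝ) * y ^ 2 ≤ 1 / 3 ^ r := by
      rw [hqy]
      exact div_le_div_of_nonneg_left zero_le_one (by positivity) (pow_le_pow_left₀ (by norm_num) hq' r)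
    have hr3 : (1 : ℝ) / 3 ^ r ≤ 1 / 3 := by
      obtain ⟨j, rfl⟩ : ∃ j, r = j + 1 := ⟨r - 1, by omega⟩
      exact third_pow_le j
    have hlt : (q : ℝ) * y ^ 2 < 1 := by linarith
    calc (spCount q (r + 1) N : ℝ)
        ≤ ∑ d ∈ range (N / (r + 1) + 1), (partCount q (r + 1) d : ℝ) * (B * s ^ (N - (r + 1) * d)) := by
          rw [spCount]
          push_cast
          exact Finset.sum_le_sum fun d _ => mul_le_mul_of_nonneg_left (ih _ hr) (Nat.cast_nonneg _)
      _ = B * s ^ N * ∑ d ∈ range (N / (r + 1) + 1), (partCount q (r + 1) d : ℝ) * y ^ d := by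
          rw [Finset.mul_sum]
          refine Finset.sum_congr rfl fun d hd => ?_
          rw [Finset.mem_range, Nat.lt_succ_iff, Nat.le_div_iff_mul_le (by omega), mul_comm d] at hd
          rw [hy, one_div_pow, one_div_pow, ← pow_mul, pow_sub₀ s hs0.ne' hd]
          ring
      _ ≤ _ := by
          have hminus : minusProd r = minusProd (r - 1) * (1 / (1 - 1 / 3 ^ r)) := by
            obtain ⟨j, rfl⟩ : ∃ j, r = j + 1 := ⟨r - 1, by omega⟩
            rw [minusProd, minusProd, Finset.prod_range_succ, Nat.add_sub_cancel]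
          rcases Nat.even_or_odd (r + 1) with ⟨j, hj⟩ | ⟨j, hj⟩
          · have hplus : plusProd ((r + 1) / 2) = plusProd (r / 2) * (1 + 1 / 3 ^ j) ^ 4 := by
              obtain ⟨i, rfl⟩ : ∃ i, j = i + 1 := ⟨j - 1, by omega⟩
              rw [show (r + 1) / 2 = i + 1 by omega, show r / 2 = i by omega, plusProd, Finset.prod_range_succ]
              rfl
            have hy3 : y ≤ 1 / 3 ^ j := by
              have : y = 1 / (q : ℝ) ^ j := by
                rw [hy, show r + 1 = 2 * j by omega, pow_mul, one_div_pow, hs2, one_div_pow]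
              rw [this]
              exact div_le_div_of_nonneg_left zero_le_one (by positivity) (pow_le_pow_left₀ (by norm_num) hq' j)
            have hsum : ∑ d ∈ range (N / (r + 1) + 1), (partCount q (r + 1) d : ℝ) * y ^ d ≤
                (1 + 1 / 3 ^ j) ^ 4 * (1 / (1 - 1 / 3 ^ r)) := by
              have : ∀ d, partCount q (r + 1) d = evenCount q d := fun d => if_pos (by omega)
              simp only [this]
              refine (sum_even_le hy0 hlt _).trans ?_
              rw [mul_one_div]
              exact div_le_div₀ (by positivity) (pow_le_pow_left₀ (by linarith) (by linarith) 4)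
                (by linarith) (by linarith)
            rw [hplus, show r + 1 - 1 = r by omega, hminus]
            refine (mul_le_mul_of_nonneg_left hsum (mul_nonneg hB0 (pow_nonneg hs0.le N))).trans (le_of_eq ?_)
            rw [hB]; ring
          · have hplus : plusProd ((r + 1) / 2) = plusProd (r / 2) := by
              rw [show (r + 1) / 2 = r / 2 by omega]
            have hsum : ∑ d ∈ range (N / (r + 1) + 1), (partCount q (r + 1) d : ℝ) * y ^ d ≤
                1 / (1 - 1 / 3 ^ r) := by
              have hp : ∀ d, partCount q (r + 1) d = if d % 2 = 1 then 0 else q ^ (d / 2) := fun d =>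
                if_neg (by omega)
              simp only [hp]
              set M := N / (r + 1) + 1
              calc ∑ d ∈ range M, ((if d % 2 = 1 then 0 else q ^ (d / 2) : ℕ) : ℝ) * y ^ d
                  = ∑ d ∈ (range M).filter (fun d => ¬ d % 2 = 1), ((q : ℝ) * y ^ 2) ^ (d / 2) := by
                    rw [Finset.sum_filter]
                    refine Finset.sum_congr rfl fun d _ => ?_
                    split_ifs with h
                    · simp
                    · push_cast
                      rw [mul_pow, hy, ← pow_mul, ← pow_mul, ← pow_mul, show 2 * (d / 2) = d by omega]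
                _ = ∑ d ∈ ((range M).filter (fun d => ¬ d % 2 = 1)).image (· / 2), ((q : ℝ) * y ^ 2) ^ d := by
                    rw [Finset.sum_image fun a ha b hb h => by
                      simp only [Finset.coe_filter, Set.mem_ofPred_eq, Finset.mem_range] at ha hb; omega]
                _ ≤ ∑ d ∈ range M, ((q : ℝ) * y ^ 2) ^ d := by
                    refine Finset.sum_le_sum_of_subset_of_nonneg (fun d hd => ?_)
                      fun d _ _ => pow_nonneg (mul_nonneg (Nat.cast_nonneg q) (sq_nonneg y)) d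
                    obtain ⟨a, ha, rfl⟩ := Finset.mem_image.1 hd
                    have := Finset.mem_range.1 (Finset.mem_filter.1 ha).1
                    exact Finset.mem_range.2 (by omega)
                _ ≤ 1 / (1 - 1 / 3 ^ r) := by
                    have hg := geom_sum_mul_neg ((q : ℝ) * y ^ 2) M
                    rw [le_div_iff₀ (by linarith)]
                    have hS : 0 ≤ ∑ d ∈ range M, ((q : ℝ) * y ^ 2) ^ d :=
                      Finset.sum_nonneg fun d _ => pow_nonneg (mul_nonneg (Nat.cast_nonneg q) (sq_nonneg y)) d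
                    have hp : 0 ≤ ((q : ℝ) * y ^ 2) ^ M := pow_nonneg (mul_nonneg (Nat.cast_nonneg q) (sq_nonneg y)) M
                    nlinarith
            rw [hplus, show r + 1 - 1 = r by omega, hminus]
            refine (mul_le_mul_of_nonneg_left hsum (mul_nonneg hB0 (pow_nonneg hs0.le N))).trans (le_of_eq ?_)
            rw [hB]; ring

theorem spCount_final (hq : 3 ≤ q) {n : ℕ} (hn : 1 ≤ n) :
    5 * spCount q (2 * n) (2 * n) ≤ 54 * q ^ n := by
  have h := spCount_le hq (2 * n) (2 * n) (by omega)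
  have hs : (√(q : ℝ)) ^ (2 * n) = ((q ^ n : ℕ) : ℝ) := by
    rw [pow_mul, Real.sq_sqrt (Nat.cast_nonneg q), Nat.cast_pow]
  rw [hs] at h
  have hP : plusProd (2 * n / 2) * minusProd (2 * n - 1) ≤ 43 / 4 :=
    le_trans (mul_le_mul (plusProd_mono (show 2 * n / 2 ≤ 2 * n by omega)) (minusProd_mono (Nat.sub_le _ _))
      (minusProd_pos _).le (Finset.prod_nonneg fun k _ => by positivity)) (prod_bound _)
  have h2 := h.trans (mul_le_mul_of_nonneg_right hP (Nat.cast_nonneg _))
  have : ((5 * spCount q (2 * n) (2 * n) : ℕ) : ℝ) ≤ ((54 * q ^ n : ℕ) : ℝ) := by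
    push_cast at h2 ⊢
    have : (0 : ℝ) ≤ (q : ℝ) ^ n := by positivity
    linarith
  exact_mod_cast this

end numeric

section polys

variable {F : Type*} [Field F]

/-- admissible divisor polynomial at exponent `e` -/
def PartOk (e : ℕ) (g : F[X]) : Prop :=
  conjRev (RingHom.id F) g = g ∧ (Odd e → Even g.natDegree ∧ g.coeff 0 = 1)

open scoped Classical in
/-- weight of a divisor polynomial -/
noncomputable def partWeight (e : ℕ) (g : F[X]) : ℕ :=
  if Odd e then 1 else (if g.eval 1 = 0 then 2 else 1) * (if g.eval (-1) = 0 then 2 else 1)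

theorem partOk_one (e : ℕ) : PartOk e (1 : F[X]) :=
  ⟨conjRev_one, fun _ => ⟨by simp, by simp⟩⟩

theorem partWeight_one (e : ℕ) : partWeight e (1 : F[X]) = 1 := by simp [partWeight]

variable [Fintype F]

theorem fixed_coeff_zero {g : F[X]} (hm : g.Monic) (h0 : g.coeff 0 ≠ 0)
    (h : conjRev (RingHom.id F) g = g) : g.coeff 0 = 1 ∨ g.coeff 0 = -1 := by
  have h1 : (g.coeff 0)⁻¹ = g.coeff 0 := (fixed_relation hm h).1
  exact mul_self_eq_one_iff.1 (by nth_rw 2 [← h1]; exact mul_inv_cancel₀ h0)

open scoped Classical in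
theorem card_fixed_coeff (h2 : (2 : F) ≠ 0) (D : ℕ) (a : F) :
    Nat.card {g : F[X] // g ∈ polys F (D + 1) ∧ conjRev (RingHom.id F) g = g ∧ g.coeff 0 = a} ≤
      if a = -1 ∧ (D + 1) % 2 = 0 then Fintype.card F ^ (D / 2) else Fintype.card F ^ ((D + 1) / 2) := by
  classical
  have hrel : ∀ g : {g : F[X] // g ∈ polys F (D + 1) ∧ conjRev (RingHom.id F) g = g ∧ g.coeff 0 = a},
      ∀ i ≤ D + 1, g.1.coeff i = a * g.1.coeff (D + 1 - i) := fun g i hi => by
    obtain ⟨hm, hd, -⟩ := spec_polys g.2.1
    have := (fixed_relation hm g.2.2.1).2 i (by omega)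
    rwa [hd, RingHom.id_apply, g.2.2.2] at this
  have key : ∀ (m : ℕ), (∀ g : {g : F[X] // g ∈ polys F (D + 1) ∧ conjRev (RingHom.id F) g = g ∧ g.coeff 0 = a},
      ∀ i, m < i → 2 * i ≤ D + 1 → g.1.coeff i = 0) →
      Nat.card {g : F[X] // g ∈ polys F (D + 1) ∧ conjRev (RingHom.id F) g = g ∧ g.coeff 0 = a} ≤
        Fintype.card F ^ m := by
    intro m hm
    refine (Nat.card_le_card_of_injective (β := Fin m → F) (fun g j => g.1.coeff ((j : ℕ) + 1))
      fun g g' h => Subtype.ext (Polynomial.ext fun i => ?_)).trans (le_of_eq (by simp))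
    obtain ⟨hgm, hgd, -⟩ := spec_polys g.2.1
    obtain ⟨hgm', hgd', -⟩ := spec_polys g'.2.1
    have hlow : ∀ i, 1 ≤ i → 2 * i ≤ D + 1 → g.1.coeff i = g'.1.coeff i := fun i h1 hi => by
      rcases Nat.lt_or_ge m i with h' | h'
      · rw [hm g i h' hi, hm g' i h' hi]
      · have := congrFun h ⟨i - 1, by omega⟩
        simpa [Nat.sub_add_cancel h1] using this
    rcases Nat.lt_or_ge (D + 1) i with hi | hi
    · rw [coeff_eq_zero_of_natDegree_lt (by omega), coeff_eq_zero_of_natDegree_lt (by omega)]
    rcases (show i = 0 ∨ (1 ≤ i ∧ 2 * i ≤ D + 1) ∨ i = D + 1 ∨ (1 ≤ D + 1 - i ∧ 2 * (D + 1 - i) ≤ D + 1) by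
      omega) with rfl | ⟨h1, h3⟩ | rfl | ⟨h1, h3⟩
    · rw [g.2.2.2, g'.2.2.2]
    · exact hlow i h1 h3
    · have h1 := hgm.coeff_natDegree; have h3 := hgm'.coeff_natDegree
      rw [hgd] at h1; rw [hgd'] at h3
      rw [h1, h3]
    · rw [hrel g i hi, hrel g' i hi, hlow _ h1 h3]
  split_ifs with ha
  · refine key (D / 2) fun g i hi hi2 => ?_
    have := hrel g i (by omega)
    rw [show D + 1 - i = i by omega] at this
    have h' : (2 : F) * g.1.coeff i = 0 := by linear_combination this + g.1.coeff i * ha.1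
    exact (mul_eq_zero.1 h').resolve_left h2
  · exact key ((D + 1) / 2) fun g i hi hi2 => absurd hi2 (by omega)

theorem finite_polySub (D : ℕ) (p : F[X] → Prop) : Finite {g : F[X] // g ∈ polys F D ∧ p g} :=
  Finite.of_injective (fun g : {g : F[X] // g ∈ polys F D ∧ p g} => (⟨g.1, g.2.1⟩ : polys F D))
    fun a b h => Subtype.ext (congrArg (fun z => z.1) h)

theorem card_recip (h2 : (2 : F) ≠ 0) (D : ℕ) :
    Nat.card {g : F[X] // g ∈ polys F D ∧ conjRev (RingHom.id F) g = g} ≤ recipCount (Fintype.card F) D := by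
  classical
  rcases D with _ | D
  · refine le_of_le_of_eq (Nat.card_le_card_of_injective (β := Unit) (fun _ => ()) fun g g' _ =>
      Subtype.ext ?_) (by simp [recipCount])
    rw [(spec_polys g.2.1).1.natDegree_eq_zero.1 (spec_polys g.2.1).2.1,
      (spec_polys g'.2.1).1.natDegree_eq_zero.1 (spec_polys g'.2.1).2.1]
  let L := fun a : F => {g : F[X] // g ∈ polys F (D + 1) ∧ conjRev (RingHom.id F) g = g ∧ g.coeff 0 = a}
  haveI : ∀ a, Finite (L a) := fun a => finite_polySub (D + 1) _
  let f : {g : F[X] // g ∈ polys F (D + 1) ∧ conjRev (RingHom.id F) g = g} → L 1 ⊕ L (-1) := fun g =>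
    if h : g.1.coeff 0 = 1 then Sum.inl ⟨g.1, g.2.1, g.2.2, h⟩
    else Sum.inr ⟨g.1, g.2.1, g.2.2,
      (fixed_coeff_zero (spec_polys g.2.1).1 (spec_polys g.2.1).2.2 g.2.2).resolve_left h⟩
  have hf : Function.Injective f := by
    intro g g' h
    simp only [f] at h
    refine Subtype.ext ?_
    split_ifs at h <;> simpa [L] using h
  refine (Nat.card_le_card_of_injective f hf).trans ?_
  rw [Nat.card_sum]
  refine (Nat.add_le_add (card_fixed_coeff h2 D 1) (card_fixed_coeff h2 D (-1))).trans (le_of_eq ?_)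
  have hne : (1 : F) ≠ -1 := fun h => h2 (by linear_combination h)
  simp only [recipCount, hne, false_and, if_false, true_and, Nat.succ_ne_zero]
  rcases Nat.mod_two_eq_zero_or_one (D + 1) with h | h
  · rw [if_pos h, if_neg (by omega), show (D + 1) / 2 = D / 2 + 1 by omega, Nat.add_sub_cancel, pow_succ]
    ring
  · rw [if_neg (by omega), if_pos h, two_mul]

theorem card_recip_dvd (h2 : (2 : F) ≠ 0) {h : F[X]} (hm : h.Monic) (hh : conjRev (RingHom.id F) h = h)
    (D : ℕ) :
    Nat.card {g : F[X] // g ∈ polys F D ∧ conjRev (RingHom.id F) g = g ∧ h ∣ g} ≤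
      if h.natDegree ≤ D then recipCount (Fintype.card F) (D - h.natDegree) else 0 := by
  classical
  split_ifs with hle
  · refine le_trans ?_ (card_recip h2 (D - h.natDegree))
    haveI := finite_polySub (F := F) (D - h.natDegree) (fun g => conjRev (RingHom.id F) g = g)
    have hspec : ∀ g : {g : F[X] // g ∈ polys F D ∧ conjRev (RingHom.id F) g = g ∧ h ∣ g},
        ∃ k : {g : F[X] // g ∈ polys F (D - h.natDegree) ∧ conjRev (RingHom.id F) g = g}, g.1 = h * k.1 := by
      rintro ⟨g, hg, hgf, k, rfl⟩
      obtain ⟨hgm, hgd, hg0⟩ := spec_polys hg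
      have hkm : k.Monic := hm.of_mul_monic_left hgm
      refine ⟨⟨k, mem_polys hkm ?_ ?_, ?_⟩, rfl⟩
      · rw [hm.natDegree_mul hkm] at hgd; omega
      · rw [mul_coeff_zero] at hg0; exact right_ne_zero_of_mul hg0
      · rw [conjRev_mul, hh] at hgf
        exact mul_left_cancel₀ hm.ne_zero hgf
    choose k hk using hspec
    exact Nat.card_le_card_of_injective k fun a b hab => Subtype.ext (by rw [hk a, hk b, hab])
  · refine Nat.le_zero.2 (Nat.card_eq_zero.2 (Or.inl ⟨fun g => hle ?_⟩))
    obtain ⟨hgm, hgd, -⟩ := spec_polys g.2.1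
    rw [← hgd]
    exact natDegree_le_of_dvd g.2.2.2 hgm.ne_zero

open scoped Classical in
theorem sum_part_le (h2 : (2 : F) ≠ 0) (e D : ℕ) :
    (∑ g ∈ polys F D, if PartOk e g then partWeight e g else 0) ≤ partCount (Fintype.card F) e D := by
  have hcard : ∀ (p : F[X] → Prop) [DecidablePred p],
      ((polys F D).filter p).card = Nat.card {g : F[X] // g ∈ polys F D ∧ p g} :=
    fun p _ => by
      rw [← Nat.card_eq_finsetCard]
      exact Nat.card_congr (Equiv.subtypeEquivRight fun g => Finset.mem_filter)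
  by_cases he : Odd e
  · have hw : ∀ g : F[X], partWeight e g = 1 := fun g => by rw [partWeight, if_pos he]
    simp only [hw]
    rw [← Finset.sum_filter, ← Finset.card_eq_sum_ones, hcard]
    rw [partCount, if_neg (by have := Nat.odd_iff.1 he; omega)]
    split_ifs with hD
    · refine Nat.le_zero.2 (Nat.card_eq_zero.2 (Or.inl ⟨fun g => ?_⟩))
      have := (g.2.2.2 he).1
      rw [(spec_polys g.2.1).2.1, Nat.even_iff] at this
      omega
    · rcases D with _ | D
      · refine le_of_le_of_eq (Nat.card_le_card_of_injective (β := Unit) (fun _ => ()) fun g g' _ =>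
          Subtype.ext ?_) (by simp)
        rw [(spec_polys g.2.1).1.natDegree_eq_zero.1 (spec_polys g.2.1).2.1,
          (spec_polys g'.2.1).1.natDegree_eq_zero.1 (spec_polys g'.2.1).2.1]
      · haveI := finite_polySub (F := F) (D + 1) (fun g => conjRev (RingHom.id F) g = g ∧ g.coeff 0 = 1)
        refine (Nat.card_le_card_of_injective
          (fun g => (⟨g.1, g.2.1, g.2.2.1, (g.2.2.2 he).2⟩ :
            {g : F[X] // g ∈ polys F (D + 1) ∧ conjRev (RingHom.id F) g = g ∧ g.coeff 0 = 1}))
          fun a b h => Subtype.ext (congrArg (fun z => z.1) h)).trans ((card_fixed_coeff h2 D 1).trans ?_)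
        rw [if_neg fun h => h2 (by linear_combination h.1)]
  · have hw : ∀ g : F[X], (if PartOk e g then partWeight e g else 0) =
        (if conjRev (RingHom.id F) g = g then 1 else 0) +
        (if conjRev (RingHom.id F) g = g ∧ (X - C (1 : F)) ∣ g then 1 else 0) +
        (if conjRev (RingHom.id F) g = g ∧ (X - C (-1 : F)) ∣ g then 1 else 0) +
        (if conjRev (RingHom.id F) g = g ∧ (X - C (1 : F)) * (X - C (-1)) ∣ g then 1 else 0) := by
      intro g
      have hco : IsCoprime (X - C (1 : F)) (X - C (-1 : F)) :=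
        isCoprime_X_sub_C_of_isUnit_sub (by rw [sub_neg_eq_add, one_add_one_eq_two]; exact isUnit_iff_ne_zero.2 h2)
      have hboth : (X - C (1 : F)) * (X - C (-1)) ∣ g ↔ g.eval 1 = 0 ∧ g.eval (-1) = 0 := by
        constructor
        · exact fun h => ⟨dvd_iff_isRoot.1 ((dvd_mul_right _ _).trans h), dvd_iff_isRoot.1 ((dvd_mul_left _ _).trans h)⟩
        · exact fun h => hco.mul_dvd (dvd_iff_isRoot.2 h.1) (dvd_iff_isRoot.2 h.2)
      simp only [PartOk, partWeight, he, false_implies, and_true, if_false, dvd_iff_isRoot, IsRoot.def, hboth]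
      by_cases h0 : conjRev (RingHom.id F) g = g <;> by_cases h1 : g.eval 1 = 0 <;>
        by_cases h3 : g.eval (-1) = 0 <;> simp [h0, h1, h3]
    simp only [hw, Finset.sum_add_distrib, ← Finset.sum_filter, ← Finset.card_eq_sum_ones, hcard]
    rw [partCount, if_pos (by have := Nat.not_odd_iff.1 he; omega), evenCount]
    have hlin : ∀ c : F, c * c = 1 → conjRev (RingHom.id F) (X - C c) = X - C c := fun c hc => by
      have hc0 : c ≠ 0 := fun h => by simp [h] at hc
      have h0 : (X - C c).coeff 0 ≠ 0 := by simpa using hc0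
      refine Polynomial.ext fun i => ?_
      rcases Nat.lt_or_ge 1 i with hi | hi
      · rw [coeff_eq_zero_of_natDegree_lt (by rw [natDegree_conjRev h0, natDegree_X_sub_C]; exact hi),
          coeff_eq_zero_of_natDegree_lt (by rw [natDegree_X_sub_C]; exact hi)]
      · rw [coeff_conjRev _ (by rw [natDegree_X_sub_C]; exact hi), natDegree_X_sub_C]
        rcases (show i = 0 ∨ i = 1 by omega) with rfl | rfl
        · simp [coeff_X, inv_eq_of_mul_eq_one_right hc]
        · simp [coeff_X, hc0]
    have hp := hlin 1 (one_mul 1)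
    have hmn := hlin (-1) (by ring)
    have hA := card_recip h2 D
    have hB := card_recip_dvd h2 (monic_X_sub_C (1 : F)) hp D
    have hC := card_recip_dvd h2 (monic_X_sub_C (-1 : F)) hmn D
    have hD' := card_recip_dvd h2 ((monic_X_sub_C (1 : F)).mul (monic_X_sub_C (-1 : F)))
      (by rw [conjRev_mul, hp, hmn]) D
    rw [natDegree_X_sub_C] at hB hC
    rw [natDegree_mul (X_sub_C_ne_zero _) (X_sub_C_ne_zero _), natDegree_X_sub_C, natDegree_X_sub_C] at hD'
    simp only [one_add_one_eq_two] at hD'
    omega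

open scoped Classical in
/-- total weight of the admissible tuples -/
theorem sum_tuples_le (h2 : (2 : F) ≠ 0) : ∀ r N : ℕ,
    (∑ g ∈ tuples F r N, if ∀ i : Fin r, PartOk ((i : ℕ) + 1) (g i) then
      ∏ i : Fin r, partWeight ((i : ℕ) + 1) (g i) else 0) ≤ spCount (Fintype.card F) r N := by
  intro r
  induction r with
  | zero => intro N; rw [tuples, spCount]; split_ifs <;> simp
  | succ r ih =>
    intro N
    letI := Classical.decEq (Fin (r + 1) → F[X])
    rw [tuples, spCount]
    refine (sum_biUnion_le' _ _ _).trans (Finset.sum_le_sum fun d _ => ?_)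
    refine (Finset.sum_image_le_of_nonneg fun _ _ => Nat.zero_le _).trans ?_
    rw [Finset.sum_product]
    refine le_trans (le_of_eq ?_) (Nat.mul_le_mul (sum_part_le h2 (r + 1) d) (ih (N - (r + 1) * d)))
    rw [Finset.sum_mul]
    refine Finset.sum_congr rfl fun x _ => ?_
    rw [Finset.mul_sum]
    refine Finset.sum_congr rfl fun t _ => ?_
    by_cases hx : PartOk (r + 1) x <;> by_cases ht : ∀ i : Fin r, PartOk ((i : ℕ) + 1) (t i) <;>
      simp [Fin.forall_fin_succ', Fin.prod_univ_castSucc, hx, ht, mul_comm]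

end polys

end CfsgLib.SpClassNum
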