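import Mathlib
import Cfsg.Agent.Lib.SpecGL.SLClassBound
import Cfsg.Agent.Lib.SpClassNum.Divisors
import Cfsg.Agent.Lib.SpClassNum.Count

/-!
At most `spCount q m m` classes of isometries of an alternating form on `F^m`, odd characteristic.
-/

set_option autoImplicit false

namespace CfsgLib.SpClassNum

open Polynomial Matrix CfsgLib.SympUnip CfsgLib.UnitaryUnip CfsgLib.SpecGL CfsgLib.SpecUnitary

universe u

variable {F : Type u} [Field F]

theorem conjRev_linear {c : F} (hc : c * c = 1) :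
    conjRev (RingHom.id F) (X - Polynomial.C c) = X - Polynomial.C c := by
  have hc0 : c ≠ 0 := fun h => by simp [h] at hc
  have h0 : (X - Polynomial.C c).coeff 0 ≠ 0 := by simpa using hc0
  refine Polynomial.ext fun i => ?_
  rcases Nat.lt_or_ge 1 i with hi | hi
  · rw [coeff_eq_zero_of_natDegree_lt (by rw [natDegree_conjRev h0, natDegree_X_sub_C]; exact hi),
      coeff_eq_zero_of_natDegree_lt (by rw [natDegree_X_sub_C]; exact hi)]
  · rw [coeff_conjRev _ (by rw [natDegree_X_sub_C]; exact hi), natDegree_X_sub_C]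
    rcases (show i = 0 ∨ i = 1 by omega) with rfl | rfl
    · simp [coeff_X, inv_eq_of_mul_eq_one_right hc]
    · simp [coeff_X, hc0]

/-- A reciprocal polynomial without roots `±1` has even degree and constant term one. -/
theorem fixed_no_root (h2 : (2 : F) ≠ 0) {r : F[X]} (h : conjRev (RingHom.id F) r = r) (h1 : r.eval 1 ≠ 0)
    (hm1 : r.eval (-1) ≠ 0) : Even r.natDegree ∧ r.coeff 0 = 1 := by
  have hrev : Polynomial.C (r.coeff 0)⁻¹ * r.reverse = r := by
    rwa [conjRev, Polynomial.map_id, RingHom.id_apply] at h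
  have he : ∀ c : F, c * c = 1 → r.reverse.eval c * c ^ r.natDegree = r.eval c := fun c hc => by
    haveI : Invertible c := ⟨c, hc, hc⟩
    have := eval₂_reverse_mul_pow (RingHom.id F) c r
    rwa [invOf_eq_right_inv hc, eval₂_id, eval₂_id] at this
  have e1 := he 1 (one_mul 1)
  rw [one_pow, mul_one] at e1
  have hc1 : (r.coeff 0)⁻¹ * r.eval 1 = r.eval 1 := by
    conv_rhs => rw [← hrev]
    rw [eval_mul, eval_C, e1]
  have h0 : (r.coeff 0)⁻¹ = 1 := (mul_eq_right₀ h1).1 hc1
  refine ⟨?_, inv_eq_one.1 h0⟩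
  rw [h0, map_one, one_mul] at hrev
  have e2 := he (-1) (by ring)
  rw [hrev] at e2
  have h3 : (-1 : F) ^ r.natDegree = 1 := (mul_eq_left₀ hm1).1 e2
  by_contra hodd
  rw [(Nat.not_even_iff_odd.1 hodd).neg_one_pow] at h3
  exact h2 (by linear_combination -h3)

open scoped Classical in
/-- A reciprocal product of irreducibles with `X ∓ 1` occurring evenly often. -/
theorem prod_even_parts (h2 : (2 : F) ≠ 0) {S : Multiset F[X]} (hS : ∀ p ∈ S, p.Monic ∧ Irreducible p)
    (hfix : conjRev (RingHom.id F) S.prod = S.prod) (hp : Even (S.count (X - Polynomial.C 1)))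
    (hq : Even (S.count (X - Polynomial.C (-1 : F)))) :
    Even S.prod.natDegree ∧ S.prod.coeff 0 = 1 := by
  set a : F[X] := X - Polynomial.C 1
  set b : F[X] := X - Polynomial.C (-1 : F)
  have hab : a ≠ b := fun h => h2 (by
    have := congrArg (fun p : F[X] => p.coeff 0) h
    simp [a, b] at this
    linear_combination -this)
  set R := S.filter fun p => p ≠ a ∧ p ≠ b with hR
  have hsplit : S.prod = a ^ S.count a * b ^ S.count b * R.prod := by
    conv_lhs => rw [← Multiset.filter_add_not (fun p => p = a) S, Multiset.prod_add, Multiset.filter_eq',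
      Multiset.prod_replicate, ← Multiset.filter_add_not (fun p => p = b) (S.filter fun p => ¬ p = a),
      Multiset.prod_add, Multiset.filter_eq', Multiset.prod_replicate, Multiset.count_filter_of_pos
        (p := fun p => ¬ p = a) (Ne.symm hab), Multiset.filter_filter]
    rw [mul_assoc]
    congr 3
    exact Multiset.filter_congr fun p _ => ⟨fun h => ⟨h.2, h.1⟩, fun h => ⟨h.2, h.1⟩⟩
  have hRm : ∀ p ∈ R, p.Monic ∧ Irreducible p ∧ p ≠ a ∧ p ≠ b := fun p hp =>
    ⟨(hS p (Multiset.mem_of_mem_filter hp)).1, (hS p (Multiset.mem_of_mem_filter hp)).2,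
      (Multiset.mem_filter.1 hp).2⟩
  have hroot : ∀ c : F, (∀ p ∈ R, p ≠ X - Polynomial.C c) → R.prod.eval c ≠ 0 := fun c hc h => by
    rw [eval_multiset_prod, Multiset.prod_eq_zero_iff, Multiset.mem_map] at h
    obtain ⟨p, hp, hpc⟩ := h
    obtain ⟨hm, hirr, -⟩ := hRm p hp
    exact hc p hp (eq_of_monic_of_associated (monic_X_sub_C c) hm
      ((irreducible_X_sub_C c).associated_of_dvd hirr (dvd_iff_isRoot.2 hpc))).symm
  have hca : conjRev (RingHom.id F) a = a := conjRev_linear (one_mul 1)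
  have hcb : conjRev (RingHom.id F) b = b := conjRev_linear (by ring)
  have hne : a ^ S.count a * b ^ S.count b ≠ 0 :=
    mul_ne_zero (pow_ne_zero _ (X_sub_C_ne_zero _)) (pow_ne_zero _ (X_sub_C_ne_zero _))
  rw [hsplit, conjRev_mul, conjRev_mul, conjRev_pow, conjRev_pow, hca, hcb] at hfix
  obtain ⟨hd, h0⟩ := fixed_no_root h2 (mul_left_cancel₀ hne hfix) (hroot 1 fun p hp => (hRm p hp).2.2.1)
    (hroot (-1) fun p hp => (hRm p hp).2.2.2)
  have hRmon : R.prod.Monic := by
    simpa using monic_multiset_prod_of_monic R id fun p hp => (hRm p hp).1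
  have ha : (a ^ S.count a).Monic := (monic_X_sub_C _).pow _
  have hb : (b ^ S.count b).Monic := (monic_X_sub_C _).pow _
  rw [hsplit, (ha.mul hb).natDegree_mul hRmon, ha.natDegree_mul hb, natDegree_pow, natDegree_pow,
    natDegree_X_sub_C, natDegree_X_sub_C, mul_one, mul_one]
  refine ⟨(hp.add hq).add hd, ?_⟩
  rw [mul_coeff_zero, mul_coeff_zero, h0, coeff_zero_eq_eval_zero, coeff_zero_eq_eval_zero, eval_pow, eval_pow, show a.eval 0 = -1 by simp [a], show b.eval 0 = 1 by simp [b], hp.neg_one_pow]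
  simp

variable [Fintype F] {m : ℕ}

theorem prod_two_eq {E : Finset ℕ} (hE : ∀ a ∈ E, 1 ≤ a ∧ a ≤ m) :
    (∏ i : Fin m, if (i : ℕ) + 1 ∈ E then 2 else 1) = 2 ^ E.card := by
  rw [Finset.prod_ite, Finset.prod_const, Finset.prod_const_one, mul_one]
  congr 1
  refine Finset.card_nbij (fun i => (i : ℕ) + 1) (fun i hi => (Finset.mem_filter.1 hi).2)
    (fun i _ j _ h => Fin.ext (by simpa using h)) fun a ha => ?_
  obtain ⟨h1, h2⟩ := hE a ha
  exact ⟨⟨a - 1, by omega⟩, Finset.mem_coe.2 (Finset.mem_filter.2 ⟨Finset.mem_univ _, by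
    simpa [Nat.sub_add_cancel h1] using ha⟩), by simp [Nat.sub_add_cancel h1]⟩

/-- Pairwise non-conjugate isometries are at most `spCount q m m` in number. -/
theorem card_isometry_classes_le (h2 : (2 : F) ≠ 0) {J : Matrix (Fin m) (Fin m) F} (hJ : Jᵀ = -J)
    (hJu : IsUnit J) {K : Type u} [Finite K] (A : K → Matrix (Fin m) (Fin m) F)
    (hA : ∀ k, (A k)ᵀ * J * A k = J)
    (hinj : ∀ k k' (Z : Matrix (Fin m) (Fin m) F), Zᵀ * J * Z = J → Z * A k = A k' * Z → k = k') :
    Nat.card K ≤ spCount (Fintype.card F) m m := by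
  classical
  have hJd : IsUnit J.det := (Matrix.isUnit_iff_isUnit_det _).1 hJu
  have hunit : ∀ k, IsUnit (A k) := fun k => by
    refine IsUnit.of_mul_eq_one_right (J⁻¹ * (A k)ᵀ * J) ?_
    rw [Matrix.mul_assoc, Matrix.mul_assoc, ← Matrix.mul_assoc (A k)ᵀ, hA, Matrix.nonsing_inv_mul _ hJd]
  choose s hdiv hgood hsum using fun k => exists_divisors (A k) (hunit k)
  let h : K → Fin m → F[X] := fun k i => exponentPoly (s k) i
  have hmem : ∀ k, h k ∈ tuples F m m := fun k => mem_tuples
    (fun i => ⟨GoodDivisors.monic_exponentPoly (hgood k) i, GoodDivisors.coeff_zero_exponentPoly (hgood k) i⟩)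
    (GoodDivisors.weight_exponentPoly (hgood k) (hsum k))
  let C := fun k => (exists_coords h2 (A k)).some
  have hcount : ∀ (k : K) (p : F[X]) (i : Fin m),
      (((s k).filter fun x => x.2 = (i : ℕ) + 1).map Prod.fst).count p = (s k).count (p, (i : ℕ) + 1) := by
    intro k p i
    rw [Multiset.count_map, Multiset.filter_filter, Multiset.count_eq_card_filter_eq]
    refine congrArg Multiset.card (Multiset.filter_congr fun y _ => ?_)
    exact ⟨fun h => Prod.ext h.1 h.2.symm, fun h => ⟨by rw [← h], by rw [← h]⟩⟩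
  have hok : ∀ k (i : Fin m), PartOk ((i : ℕ) + 1) (h k i) := by
    intro k i
    have hfix : conjRev (RingHom.id F) (exponentPoly (s k) i) = exponentPoly (s k) i := by
      have hinv := divisors_reverse_invariant hJd (hA k) (hgood k) (hdiv k)
      rw [exponentPoly, conjRev_multiset_prod]
      conv_rhs => rw [← hinv, Multiset.filter_map, Multiset.map_map]
      rw [Multiset.map_map]
      rfl
    refine ⟨hfix, fun hodd => ?_⟩
    obtain ⟨hp, hq⟩ := (C k).even_odd_parts h2 hJ hJu (hA k) hodd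
    refine prod_even_parts h2 (fun p hp' => ?_) hfix ?_ ?_
    · obtain ⟨x, hx, rfl⟩ := Multiset.mem_map.1 hp'
      exact ⟨(hgood k x (Multiset.mem_of_mem_filter hx)).1, (hgood k x (Multiset.mem_of_mem_filter hx)).2.1⟩
    · rw [hcount, (C k).count_one (hgood k) (hdiv k)]; exact hp
    · rw [hcount, (C k).count_neg_one h2 (hgood k) (hdiv k)]; exact hq
  haveI : Fintype K := Fintype.ofFinite K
  have hfib : ∀ t ∈ tuples F m m, (Finset.univ.filter fun k : K => h k = t).card ≤
      if ∀ i : Fin m, PartOk ((i : ℕ) + 1) (t i) then ∏ i : Fin m, partWeight ((i : ℕ) + 1) (t i) else 0 := by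
    intro t ht
    rcases Finset.eq_empty_or_nonempty (Finset.univ.filter fun k : K => h k = t) with he | ⟨k₀, hk₀⟩
    · rw [he]; simp
    rw [Finset.mem_filter] at hk₀
    rw [if_pos fun i => by rw [← hk₀.2]; exact hok k₀ i]
    have hsim : ∀ k : {k : K // h k = t}, ∃ P : GL (Fin m) F,
        (P : Matrix (Fin m) (Fin m) F) * A k₀ = A k.1 * P := fun k => by
      have hss : s k.1 = s k₀ :=
        GoodDivisors.eq_of_exponentPoly_eq (hgood k.1) (hgood k₀)
          (fun y hy => (GoodDivisors.bounds (hgood k.1) (hsum k.1) y hy).2)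
          (fun y hy => (GoodDivisors.bounds (hgood k₀) (hsum k₀) y hy).2)
          fun j => congrFun (k.2.trans hk₀.2.symm) j
      exact isConj_of_divisors (hdiv k₀) (by rw [← hss]; exact hdiv k.1)
    choose T hT using hsim
    have hle := (C k₀).card_similar_le h2 hJ hJu (fun k : {k : K // h k = t} => A k.1) (fun k => hA k.1) T hT
      (fun k k' Z hZ hZA => Subtype.ext (hinj k.1 k'.1 Z hZ hZA))
    rw [Nat.card_eq_fintype_card, Fintype.card_subtype] at hle
    refine hle.trans ?_
    have hparts : ∀ a ∈ evenParts (C k₀).dp, 1 ≤ a ∧ a ≤ m ∧ Even a ∧ (X - Polynomial.C 1, a) ∈ s k₀ := by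
      intro a ha
      obtain ⟨ha, hev⟩ := Finset.mem_filter.1 ha
      obtain ⟨j, -, rfl⟩ := Finset.mem_image.1 ha
      have hpos := (C k₀).hdp j
      have hin : (X - Polynomial.C 1, (C k₀).dp j) ∈ s k₀ := by
        rw [← Multiset.count_pos, show (C k₀).dp j = (C k₀).dp j - 1 + 1 by omega,
          (C k₀).count_one (hgood k₀) (hdiv k₀)]
        exact Fintype.card_pos_iff.2 ⟨⟨j, by omega⟩⟩
      exact ⟨hpos, (GoodDivisors.bounds (hgood k₀) (hsum k₀) _ hin).2, hev, hin⟩
    have hpartsm : ∀ a ∈ evenParts (C k₀).dm,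
        1 ≤ a ∧ a ≤ m ∧ Even a ∧ (X - Polynomial.C (-1 : F), a) ∈ s k₀ := by
      intro a ha
      obtain ⟨ha, hev⟩ := Finset.mem_filter.1 ha
      obtain ⟨j, -, rfl⟩ := Finset.mem_image.1 ha
      have hpos := (C k₀).hdm j
      have hin : (X - Polynomial.C (-1 : F), (C k₀).dm j) ∈ s k₀ := by
        rw [← Multiset.count_pos, show (C k₀).dm j = (C k₀).dm j - 1 + 1 by omega,
          (C k₀).count_neg_one h2 (hgood k₀) (hdiv k₀)]
        exact Fintype.card_pos_iff.2 ⟨⟨j, by omega⟩⟩
      exact ⟨hpos, (GoodDivisors.bounds (hgood k₀) (hsum k₀) _ hin).2, hev, hin⟩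
    rw [← prod_two_eq fun a ha => ⟨(hparts a ha).1, (hparts a ha).2.1⟩,
      ← prod_two_eq fun a ha => ⟨(hpartsm a ha).1, (hpartsm a ha).2.1⟩, ← Finset.prod_mul_distrib]
    refine Finset.prod_le_prod' fun i _ => ?_
    have hz : ∀ (c : F), (X - Polynomial.C c, (i : ℕ) + 1) ∈ s k₀ → (t i).eval c = 0 := fun c hc => by
      rw [← hk₀.2]
      show (exponentPoly (s k₀) i).eval c = 0
      rw [exponentPoly, eval_multiset_prod, Multiset.map_map]
      exact Multiset.prod_eq_zero (Multiset.mem_map.2 ⟨_, Multiset.mem_filter.2 ⟨hc, rfl⟩, by simp⟩)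
    rw [partWeight]
    by_cases hodd : Odd ((i : ℕ) + 1)
    · rw [if_pos hodd, if_neg fun hh => Nat.not_even_iff_odd.2 hodd (hparts _ hh).2.2.1,
        if_neg fun hh => Nat.not_even_iff_odd.2 hodd (hpartsm _ hh).2.2.1, one_mul]
    · rw [if_neg hodd]
      refine Nat.mul_le_mul ?_ ?_
      · by_cases hh : (i : ℕ) + 1 ∈ evenParts (C k₀).dp
        · rw [if_pos hh, if_pos (hz 1 (hparts _ hh).2.2.2)]
        · rw [if_neg hh]; split_ifs <;> omega
      · by_cases hh : (i : ℕ) + 1 ∈ evenParts (C k₀).dm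
        · rw [if_pos hh, if_pos (hz (-1) (hpartsm _ hh).2.2.2)]
        · rw [if_neg hh]; split_ifs <;> omega
  refine le_trans ?_ (sum_tuples_le h2 m m)
  rw [Nat.card_eq_fintype_card, ← Finset.card_univ,
    Finset.card_eq_sum_card_fiberwise (f := h) (t := tuples F m m) fun k _ => hmem k]
  exact Finset.sum_le_sum hfib

end CfsgLib.SpClassNum
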